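import Mathlib
import Cfsg.Agent.S2504

/-!
# Abelian subgroups of largest order in alternating groups
-/

set_option autoImplicit false

open scoped Pointwise
open Equiv Equiv.Perm MulAction

namespace CfsgLib.SymHall.AltMaxAbelian

open Cfsg.Agent.S2504 (maxProd maxProd_step maxProd_three_mul maxProd_three_mul_add_one maxProd_three_mul_add_two
  le_maxProd_step mul_maxProd_le prod_le_maxProd exists_example)

theorem maxProd_pos : ∀ m : ℕ, 0 < maxProd m := fun m =>
  lt_of_lt_of_le Nat.one_pos (by simpa using prod_le_maxProd (Multiset.replicate m 1))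

/-- A part of size at least five is not optimal. -/
theorem big_part {a m : ℕ} (ha : 5 ≤ a) : a * maxProd m < maxProd (a + m) := by
  have h1 := mul_maxProd_le (a - 3) (3 + m)
  rw [show a - 3 + (3 + m) = a + m by omega, add_comm 3 m] at h1
  have h2 := le_maxProd_step m
  have h3 := maxProd_pos m
  calc a * maxProd m < 3 * (a - 3) * maxProd m := Nat.mul_lt_mul_of_pos_right (by omega) h3
    _ = (a - 3) * (3 * maxProd m) := by ring
    _ ≤ (a - 3) * maxProd (m + 3) := Nat.mul_le_mul_left _ h2
    _ ≤ _ := h1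

theorem big_part_two : ∀ (a k m : ℕ), 5 ≤ a → a + m = 3 * k + 2 → 9 * (a * maxProd m) < 16 * 3 ^ k := by
  intro a
  induction a using Nat.strong_induction_on with
  | _ a ih =>
    intro k m ha hm
    rcases Nat.lt_or_ge a 8 with h | h
    · interval_cases a
      · obtain ⟨j, rfl⟩ : ∃ j, k = j + 1 := ⟨k - 1, by omega⟩
        rw [show m = 3 * j by omega, maxProd_three_mul, pow_succ]
        have := pow_pos (show 0 < 3 by norm_num) j
        omega
      · obtain ⟨j, rfl⟩ : ∃ j, k = j + 2 := ⟨k - 2, by omega⟩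
        rw [show m = 3 * j + 2 by omega, maxProd_three_mul_add_two, pow_succ, pow_succ]
        have := pow_pos (show 0 < 3 by norm_num) j
        omega
      · obtain ⟨j, rfl⟩ : ∃ j, k = j + 2 := ⟨k - 2, by omega⟩
        rcases j with _ | j
        · rw [show m = 1 by omega]; simp [maxProd]
        · rw [show m = 3 * (j + 1) + 1 by omega, maxProd_three_mul_add_one _ (by omega), Nat.add_sub_cancel, pow_succ, pow_succ, pow_succ]
          have := pow_pos (show 0 < 3 by norm_num) j
          omega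
    · have h1 := ih (a - 3) (by omega) k (m + 3) (by omega) (by omega)
      have h3 : a * maxProd m ≤ (a - 3) * maxProd (m + 3) := by
        refine le_trans ?_ (Nat.mul_le_mul_left _ (le_maxProd_step m))
        rw [← mul_assoc]
        exact Nat.mul_le_mul_right _ (by omega)
      omega

/-- The optimum. -/
def target (n : ℕ) : ℕ :=
  if n % 3 = 0 then 3 ^ (n / 3) else if n % 3 = 1 then 4 * 3 ^ (n / 3 - 1) else 16 * 3 ^ (n / 3 - 2)

/-- The shape of an optimal multiset of parts. -/
theorem parts {n : ℕ} (hn : 3 ≤ n) (hn5 : n ≠ 5) {s : Multiset ℕ} (hs : s.sum = n) (h0 : ∀ a ∈ s, 0 < a)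
    {M : ℕ} (hM : target n ≤ M) (hMP : M ≤ s.prod) (h2 : 2 ∈ s → 2 * M ≤ s.prod) :
    M = s.prod ∧ (∀ a ∈ s, a = 3 ∨ a = 4) ∧ s.count 4 ≤ 2 := by
  obtain ⟨k, hk, hcase⟩ : ∃ k, 1 ≤ k ∧ ((n = 3 * k ∧ target n = 3 ^ k) ∨ (n = 3 * k + 1 ∧ target n = 4 * 3 ^ (k - 1)) ∨
      (n = 3 * k + 2 ∧ 2 ≤ k ∧ target n = 16 * 3 ^ (k - 2))) := by
    refine ⟨n / 3, by omega, ?_⟩
    unfold target
    rcases (show n % 3 = 0 ∨ n % 3 = 1 ∨ n % 3 = 2 by omega) with h | h | h
    · exact Or.inl ⟨by omega, by simp [h]⟩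
    · exact Or.inr (Or.inl ⟨by omega, by simp [h]⟩)
    · exact Or.inr (Or.inr ⟨by omega, by omega, by simp [h]⟩)
  have hP := prod_le_maxProd s
  rw [hs] at hP
  have hno2 : 2 ∉ s := by
    intro h
    have := h2 h
    rcases hcase with ⟨rfl, ht⟩ | ⟨rfl, ht⟩ | ⟨rfl, hk2, ht⟩ <;> rw [ht] at hM
    · rw [maxProd_three_mul] at hP; have := pow_pos (show 0 < 3 by norm_num) k; omega
    · rw [maxProd_three_mul_add_one _ hk] at hP; have := pow_pos (show 0 < 3 by norm_num) (k - 1); omega
    · obtain ⟨j, rfl⟩ : ∃ j, k = j + 2 := ⟨k - 2, by omega⟩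
      rw [maxProd_three_mul_add_two, pow_succ, pow_succ] at hP
      rw [Nat.add_sub_cancel] at hM
      have := pow_pos (show 0 < 3 by norm_num) j
      omega
  have hbad : ∀ a ∈ s, a ≠ 3 → a ≠ 4 → False := by
    intro a ha h3 h4
    have h02 : a ≠ 2 := fun h => hno2 (h ▸ ha)
    have hpos := h0 a ha
    obtain ⟨t, rfl⟩ := Multiset.exists_cons_of_mem ha
    rw [Multiset.sum_cons] at hs
    have hle : (a ::ₘ t).prod ≤ a * maxProd t.sum := by
      rw [Multiset.prod_cons]; exact Nat.mul_le_mul_left _ (prod_le_maxProd t)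
    rcases (show a = 1 ∨ 5 ≤ a by omega) with rfl | ha5
    · rcases hcase with ⟨rfl, ht⟩ | ⟨rfl, ht⟩ | ⟨rfl, hk2, ht⟩ <;> rw [ht] at hM
      · obtain ⟨j, rfl⟩ : ∃ j, k = j + 1 := ⟨k - 1, by omega⟩
        rw [show t.sum = 3 * j + 2 by omega, maxProd_three_mul_add_two] at hle
        rw [pow_succ] at hM
        have := pow_pos (show 0 < 3 by norm_num) j
        omega
      · rw [show t.sum = 3 * k by omega, maxProd_three_mul] at hle
        obtain ⟨j, rfl⟩ : ∃ j, k = j + 1 := ⟨k - 1, by omega⟩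
        rw [Nat.add_sub_cancel] at hM
        rw [pow_succ] at hle
        have := pow_pos (show 0 < 3 by norm_num) j
        omega
      · rw [show t.sum = 3 * k + 1 by omega, maxProd_three_mul_add_one _ hk] at hle
        obtain ⟨j, rfl⟩ : ∃ j, k = j + 2 := ⟨k - 2, by omega⟩
        rw [Nat.add_sub_cancel] at hM
        rw [show j + 2 - 1 = j + 1 by omega, pow_succ] at hle
        have := pow_pos (show 0 < 3 by norm_num) j
        omega
    · rcases hcase with ⟨rfl, ht⟩ | ⟨rfl, ht⟩ | ⟨rfl, hk2, ht⟩ <;> rw [ht] at hM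
      · have := big_part (a := a) (m := t.sum) ha5
        rw [hs, maxProd_three_mul] at this
        omega
      · have := big_part (a := a) (m := t.sum) ha5
        rw [hs, maxProd_three_mul_add_one _ hk] at this
        omega
      · have := big_part_two a k t.sum ha5 hs
        obtain ⟨j, rfl⟩ : ∃ j, k = j + 2 := ⟨k - 2, by omega⟩
        rw [Nat.add_sub_cancel] at hM
        rw [pow_succ, pow_succ] at this
        omega
  have h34 : ∀ a ∈ s, a = 3 ∨ a = 4 := fun a ha => by
    by_contra h
    push Not at h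
    exact hbad a ha h.1 h.2
  have hcount : s.count 4 ≤ 2 := by
    by_contra h
    obtain ⟨t, rfl⟩ := Multiset.le_iff_exists_add.1 (Multiset.le_count_iff_replicate_le.1 (show 3 ≤ s.count 4 by omega))
    rw [Multiset.sum_add, Multiset.sum_replicate, smul_eq_mul] at hs
    have hle : (Multiset.replicate 3 4 + t).prod ≤ 64 * maxProd t.sum := by
      rw [Multiset.prod_add, Multiset.prod_replicate]; exact Nat.mul_le_mul_left _ (prod_le_maxProd t)
    rcases hcase with ⟨rfl, ht⟩ | ⟨rfl, ht⟩ | ⟨rfl, hk2, ht⟩ <;> rw [ht] at hM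
    · obtain ⟨j, rfl⟩ : ∃ j, k = j + 4 := ⟨k - 4, by omega⟩
      rw [show t.sum = 3 * j by omega, maxProd_three_mul] at hle
      simp only [pow_succ] at hM
      have := pow_pos (show 0 < 3 by norm_num) j
      omega
    · obtain ⟨j, rfl⟩ : ∃ j, k = j + 4 := ⟨k - 4, by omega⟩
      rw [show j + 4 - 1 = j + 3 by omega] at hM
      simp only [pow_succ] at hM
      have := pow_pos (show 0 < 3 by norm_num) j
      rcases j with _ | i
      · rw [show t.sum = 1 by omega, show maxProd 1 = 1 from rfl] at hle; omega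
      · rw [show t.sum = 3 * (i + 1) + 1 by omega, maxProd_three_mul_add_one _ (by omega), Nat.add_sub_cancel] at hle
        rw [pow_succ] at hM
        have := pow_pos (show 0 < 3 by norm_num) i
        omega
    · obtain ⟨j, rfl⟩ : ∃ j, k = j + 4 := ⟨k - 4, by omega⟩
      rw [show t.sum = 3 * j + 2 by omega, maxProd_three_mul_add_two] at hle
      rw [show j + 4 - 2 = j + 2 by omega] at hM
      simp only [pow_succ] at hM
      have := pow_pos (show 0 < 3 by norm_num) j
      omega
  refine ⟨le_antisymm hMP ?_, h34, hcount⟩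
  rcases hcase with ⟨rfl, ht⟩ | ⟨rfl, ht⟩ | ⟨rfl, hk2, ht⟩ <;> rw [ht] at hM
  · rw [maxProd_three_mul] at hP; omega
  · rw [maxProd_three_mul_add_one _ hk] at hP; omega
  · refine le_trans ?_ hM
    have hsum : s = Multiset.replicate (s.count 3) 3 + Multiset.replicate (s.count 4) 4 := by
      ext x
      simp only [Multiset.count_add, Multiset.count_replicate]
      by_cases hx3 : x = 3
      · subst hx3; simp
      · by_cases hx4 : x = 4
        · subst hx4; simp
        · rw [if_neg (Ne.symm hx3), if_neg (Ne.symm hx4), Multiset.count_eq_zero]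
          exact fun hx => (h34 x hx).elim hx3 hx4
    rw [hsum, Multiset.sum_add, Multiset.sum_replicate, Multiset.sum_replicate, smul_eq_mul, smul_eq_mul] at hs
    rw [hsum, Multiset.prod_add, Multiset.prod_replicate, Multiset.prod_replicate, show s.count 4 = 2 by omega,
      show s.count 3 = k - 2 by omega, mul_comm]
    norm_num

theorem target_attained {n : ℕ} (hn : 3 ≤ n) (hn5 : n ≠ 5) :
    ∃ A : Subgroup (alternatingGroup (Fin n)), IsMulCommutative A ∧ Nat.card A = target n := by
  unfold target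
  rcases (show n % 3 = 0 ∨ n % 3 = 1 ∨ n % 3 = 2 by omega) with h | h | h
  · obtain ⟨A, hA, hc⟩ := exists_example (n / 3) 0 n (by omega)
    exact ⟨A, hA, by simp [hc, h]⟩
  · obtain ⟨A, hA, hc⟩ := exists_example (n / 3 - 1) 1 n (by omega)
    exact ⟨A, hA, by simp [hc, h, mul_comm]⟩
  · obtain ⟨A, hA, hc⟩ := exists_example (n / 3 - 2) 2 n (by omega)
    exact ⟨A, hA, by rw [hc]; simp [h, mul_comm]⟩

section orbits

variable {n : ℕ}

/-- An abelian subgroup given by permutations, with its orbit map. -/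
structure Orb (A : Subgroup (Perm (Fin n))) where
  ι : Type
  fι : Fintype ι
  dι : DecidableEq ι
  f : Fin n → ι
  sur : Function.Surjective f
  iff : ∀ x y, f x = f y ↔ ∃ a ∈ A, a x = y

theorem exists_orb (A : Subgroup (Perm (Fin n))) : Nonempty (Orb A) := by
  classical
  refine ⟨⟨orbitRel.Quotient A (Fin n), Fintype.ofFinite _, Classical.decEq _, Quotient.mk'',
    Quotient.mk''_surjective, fun x y => ?_⟩⟩
  rw [Quotient.eq'', orbitRel_apply, mem_orbit_iff]
  constructor
  · rintro ⟨a, ha⟩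
    exact ⟨(a : Perm (Fin n))⁻¹, A.inv_mem a.2, (Equiv.Perm.inv_eq_iff_eq).2 ha.symm⟩
  · rintro ⟨a, ha, h⟩
    exact ⟨⟨a⁻¹, A.inv_mem ha⟩, (Equiv.Perm.inv_eq_iff_eq).2 h.symm⟩

variable {A : Subgroup (Perm (Fin n))} (O : Orb A)

/-- The sizes of the orbits. -/
noncomputable def Orb.size (ω : O.ι) : ℕ := Nat.card {x // O.f x = ω}

noncomputable def Orb.sizes : Multiset ℕ := letI := O.fι; Finset.univ.val.map O.size

theorem Orb.sum_sizes : O.sizes.sum = n := by
  letI := O.fι
  show ∑ ω, O.size ω = n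
  simp only [Orb.size]
  rw [← Nat.card_sigma, Nat.card_congr (Equiv.sigmaFiberEquiv O.f), Nat.card_fin]

theorem Orb.size_pos (ω : O.ι) : 0 < O.size ω := by
  obtain ⟨x, hx⟩ := O.sur ω
  haveI : Nonempty {x // O.f x = ω} := ⟨⟨x, hx⟩⟩
  exact Nat.card_pos

theorem Orb.prod_sizes : O.sizes.prod = Nat.card (∀ ω, {x // O.f x = ω}) := by
  letI := O.fι
  rw [Nat.card_pi]
  rfl

/-- A chosen point of each orbit. -/
noncomputable def Orb.pt (ω : O.ι) : Fin n := (O.sur ω).choose

theorem Orb.f_pt (ω : O.ι) : O.f (O.pt ω) = ω := (O.sur ω).choose_spec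

theorem Orb.f_apply {a : Perm (Fin n)} (ha : a ∈ A) (x : Fin n) : O.f (a x) = O.f x :=
  ((O.iff x (a x)).2 ⟨a, ha, rfl⟩).symm

/-- The images of the chosen points. -/
noncomputable def Orb.coord (a : A) : ∀ ω, {x // O.f x = ω} := fun ω =>
  ⟨(a : Perm (Fin n)) (O.pt ω), by rw [O.f_apply a.2, O.f_pt]⟩

theorem fix_orbit (hA : IsMulCommutative A) {a : Perm (Fin n)} (ha : a ∈ A) {x : Fin n} (h : a x = x)
    {y : Fin n} (hy : O.f x = O.f y) : a y = y := by
  obtain ⟨b, hb, rfl⟩ := (O.iff x y).1 hy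
  have hc : a * b = b * a := congrArg Subtype.val (hA.is_comm.comm ⟨a, ha⟩ ⟨b, hb⟩)
  calc a (b x) = (a * b) x := rfl
    _ = (b * a) x := by rw [hc]
    _ = b x := by rw [Perm.mul_apply, h]

theorem coord_injective (hA : IsMulCommutative A) : Function.Injective O.coord := by
  intro a b h
  apply Subtype.ext
  apply Equiv.ext
  intro x
  have h1 : ((b : Perm (Fin n))⁻¹ * a) (O.pt (O.f x)) = O.pt (O.f x) := by
    rw [Perm.mul_apply]
    refine (Equiv.Perm.inv_eq_iff_eq).2 ?_
    exact congrArg Subtype.val (congrFun h (O.f x))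
  have h2 := fix_orbit O hA (A.mul_mem (A.inv_mem b.2) a.2) h1 (O.f_pt (O.f x))
  rw [Perm.mul_apply, Equiv.Perm.inv_eq_iff_eq] at h2
  exact h2

theorem card_le_prod (hA : IsMulCommutative A) : Nat.card A ≤ O.sizes.prod := by
  rw [O.prod_sizes]
  letI := O.fι
  exact Nat.card_le_card_of_injective _ (coord_injective O hA)

theorem two_mul_le (hA : IsMulCommutative A) (heven : A ≤ alternatingGroup (Fin n)) (h2 : 2 ∈ O.sizes) :
    2 * Nat.card A ≤ O.sizes.prod := by
  letI := O.fι; letI := O.dι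
  obtain ⟨ω₀, -, hω₀⟩ := Multiset.mem_map.1 h2
  obtain ⟨u, v, huv, hX⟩ := Nat.card_eq_two_iff.1 hω₀
  rw [O.prod_sizes]
  let F : A × Bool → ∀ ω, {x // O.f x = ω} := fun p ω =>
    if h : ω = ω₀ then h ▸ (cond p.2 (Equiv.swap u v (O.coord p.1 ω₀)) (O.coord p.1 ω₀)) else O.coord p.1 ω
  have hF : Function.Injective F := by
    rintro ⟨a, c⟩ ⟨b, d⟩ h
    have hoff : ∀ ω, ω ≠ ω₀ → O.coord a ω = O.coord b ω := fun ω hω => by
      have := congrFun h ω
      simpa [F, hω] using this
    have hon := congrFun h ω₀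
    simp only [F, dif_pos] at hon
    have hsame : O.coord a ω₀ = O.coord b ω₀ → a = b := fun he =>
      coord_injective O hA (funext fun ω => by
        by_cases hω : ω = ω₀
        · subst hω; exact he
        · exact hoff ω hω)
    have hdiff : O.coord a ω₀ ≠ O.coord b ω₀ → False := by
      intro hne
      set c' : Perm (Fin n) := (b : Perm (Fin n))⁻¹ * a with hc'
      have hc'A : c' ∈ A := A.mul_mem (A.inv_mem b.2) a.2
      have hfix : ∀ x, O.f x ≠ ω₀ → c' x = x := fun x hx => by
        refine fix_orbit O hA hc'A (x := O.pt (O.f x)) ?_ (O.f_pt _)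
        rw [hc', Perm.mul_apply, Equiv.Perm.inv_eq_iff_eq]
        exact congrArg Subtype.val (hoff _ hx)
      have hmove : c' (O.pt ω₀) ≠ O.pt ω₀ := by
        intro he
        rw [hc', Perm.mul_apply, Equiv.Perm.inv_eq_iff_eq] at he
        exact hne (Subtype.ext he)
      have hcov : ∀ y, O.f y = ω₀ → y = (u : Fin n) ∨ y = v := fun y hy => by
        have : (⟨y, hy⟩ : {x // O.f x = ω₀}) = u ∨ (⟨y, hy⟩ : {x // O.f x = ω₀}) = v := by
          have := Set.mem_univ (⟨y, hy⟩ : {x // O.f x = ω₀})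
          rwa [← hX, Set.mem_insert_iff, Set.mem_singleton_iff] at this
        exact this.imp (congrArg Subtype.val) (congrArg Subtype.val)
      have hmv : ∀ y, O.f y = ω₀ → c' y ≠ y := fun y hy he =>
        hmove (fix_orbit O hA hc'A he (hy.trans (O.f_pt ω₀).symm))
      have hswap : c' = Equiv.swap (u : Fin n) v := by
        refine Equiv.ext fun y => ?_
        by_cases hy : O.f y = ω₀
        · have h1 := hcov (c' y) ((O.f_apply hc'A y).trans hy)
          have h2 := hmv y hy
          rcases hcov y hy with rfl | rfl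
          · rw [Equiv.swap_apply_left]; exact h1.resolve_left h2
          · rw [Equiv.swap_apply_right]; exact h1.resolve_right h2
        · rw [hfix y hy, Equiv.swap_apply_of_ne_of_ne]
          · exact fun e => hy (e ▸ u.2)
          · exact fun e => hy (e ▸ v.2)
      have := mem_alternatingGroup.1 (heven hc'A)
      rw [hswap, sign_swap (fun e => huv (Subtype.ext e))] at this
      exact absurd this (by decide)
    cases c <;> cases d <;> simp only [cond_true, cond_false] at hon
    · rw [hsame hon]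
    · by_cases he : O.coord a ω₀ = O.coord b ω₀
      · exfalso
        rw [he] at hon
        rcases hcov' : (O.coord b ω₀) with w
        have : O.coord b ω₀ = u ∨ O.coord b ω₀ = v := by
          have := Set.mem_univ (O.coord b ω₀)
          rwa [← hX, Set.mem_insert_iff, Set.mem_singleton_iff] at this
        rcases this with h' | h' <;> rw [h'] at hon <;> simp at hon
        · exact huv hon
        · exact huv hon.symm
      · exact (hdiff he).elim
    · by_cases he : O.coord a ω₀ = O.coord b ω₀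
      · exfalso
        rw [he] at hon
        have : O.coord b ω₀ = u ∨ O.coord b ω₀ = v := by
          have := Set.mem_univ (O.coord b ω₀)
          rwa [← hX, Set.mem_insert_iff, Set.mem_singleton_iff] at this
        rcases this with h' | h' <;> rw [h'] at hon <;> simp at hon
        · exact huv hon.symm
        · exact huv hon
      · exact (hdiff he).elim
    · rw [hsame ((Equiv.swap u v).injective hon)]
  have := Nat.card_le_card_of_injective F hF
  rw [Nat.card_prod, Nat.card_eq_fintype_card (α := Bool), Fintype.card_bool, mul_comm] at this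
  exact this

end orbits

/-- The permutations that act freely on each part and square to one on parts of size four. -/
def Good {n : ℕ} {ι : Type} (f : Fin n → ι) (g : Perm (Fin n)) : Prop :=
  (∀ x, f (g x) = f x) ∧ (∀ x y, f x = f y → g x = x → g y = y) ∧
    ∀ x, Nat.card {y // f y = f x} = 4 → g (g x) = x

theorem det_three : ∀ g h : Perm (Fin 3), ((∀ x, g x = x) ∨ ∀ x, g x ≠ x) → ((∀ x, h x = x) ∨ ∀ x, h x ≠ x) →
    ∀ x, g x = h x → g = h := by decide +kernel

theorem det_four : ∀ g : Perm (Fin 4), ((∀ x, g x = x) ∨ ∀ x, g x ≠ x) → (∀ x, g (g x) = x) →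
    ∀ h : Perm (Fin 4), ((∀ x, h x = x) ∨ ∀ x, h x ≠ x) → (∀ x, h (h x) = x) →
    ∀ x, g x = h x → g = h := by decide +kernel

theorem four_odd : ∀ g : Perm (Fin 4), (∀ x, g x ≠ x) → ∀ x, g (g x) ≠ x → sign g = -1 := by decide +kernel

theorem good_det {n : ℕ} {ι : Type} {f : Fin n → ι} (h34 : ∀ x, Nat.card {y // f y = f x} = 3 ∨ Nat.card {y // f y = f x} = 4)
    {g h : Perm (Fin n)} (hg : Good f g) (hh : Good f h) {ω : ι} {x : Fin n} (hx : f x = ω) (hxe : g x = h x) :
    ∀ y, f y = ω → g y = h y := by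
  classical
  intro y hy
  have hcard := h34 x
  rw [hx] at hcard
  let r : {k : Perm (Fin n) // Good f k} → Perm {z // f z = ω} := fun k =>
    k.1.subtypePerm fun z => by rw [k.2.1 z]
  have hfree : ∀ k : {k : Perm (Fin n) // Good f k}, (∀ z, r k z = z) ∨ ∀ z, r k z ≠ z := fun k => by
    by_cases he : ∃ z, r k z = z
    · obtain ⟨z, hz⟩ := he
      exact Or.inl fun w => Subtype.ext (k.2.2.1 z w (z.2.trans w.2.symm) (congrArg Subtype.val hz))
    · exact Or.inr fun z hz => he ⟨z, hz⟩
  have key : r ⟨g, hg⟩ = r ⟨h, hh⟩ := by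
    rcases hcard with h3 | h4
    · have e : {z // f z = ω} ≃ Fin 3 := Finite.equivFinOfCardEq h3
      refine e.permCongr.injective (det_three _ _ ?_ ?_ (e ⟨x, hx⟩) ?_)
      · exact (hfree ⟨g, hg⟩).imp (fun H z => by simp [H]) (fun H z hz => H (e.symm z) (e.injective (by simpa using hz)))
      · exact (hfree ⟨h, hh⟩).imp (fun H z => by simp [H]) (fun H z hz => H (e.symm z) (e.injective (by simpa using hz)))
      · simpa [r, Subtype.ext_iff] using hxe
    · have e : {z // f z = ω} ≃ Fin 4 := Finite.equivFinOfCardEq h4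
      have hsq : ∀ k : {k : Perm (Fin n) // Good f k}, ∀ z, r k (r k z) = z := fun k z =>
        Subtype.ext (k.2.2.2 z (by rw [z.2]; exact h4))
      refine e.permCongr.injective (det_four _ ?_ ?_ _ ?_ ?_ (e ⟨x, hx⟩) ?_)
      · exact (hfree ⟨g, hg⟩).imp (fun H z => by simp [H]) (fun H z hz => H (e.symm z) (e.injective (by simpa using hz)))
      · exact fun z => by simp [hsq]
      · exact (hfree ⟨h, hh⟩).imp (fun H z => by simp [H]) (fun H z hz => H (e.symm z) (e.injective (by simpa using hz)))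
      · exact fun z => by simp [hsq]
      · simpa [r, Subtype.ext_iff] using hxe
  simpa [r] using congrArg Subtype.val (Equiv.congr_fun key ⟨y, hy⟩)

/-- A maximal group is the group of good permutations of its orbit partition. -/
theorem eq_good {n : ℕ} {A : Subgroup (Perm (Fin n))} (O : Orb A) (hA : IsMulCommutative A)
    (heven : A ≤ alternatingGroup (Fin n)) (hfull : Nat.card A = O.sizes.prod)
    (h34 : ∀ ω, O.size ω = 3 ∨ O.size ω = 4) (g : Perm (Fin n)) : g ∈ A ↔ Good O.f g := by
  classical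
  letI := O.fι
  have hbij : Function.Bijective O.coord :=
    (Nat.bijective_iff_injective_and_card _).2 ⟨coord_injective O hA, by rw [hfull, O.prod_sizes]⟩
  have hgood : ∀ a ∈ A, Good O.f a := by
    intro a ha
    refine ⟨O.f_apply ha, fun x y hxy hfix => fix_orbit O hA ha hfix hxy, fun x h4 => ?_⟩
    by_contra hne
    -- the part of `a` on this orbit alone
    set ω := O.f x
    obtain ⟨b, hb⟩ := hbij.2 (fun ω' => if h : ω' = ω then ⟨a (O.pt ω'), by rw [O.f_apply ha, O.f_pt]⟩ else ⟨O.pt ω', O.f_pt ω'⟩)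
    have hb1 : ∀ y, O.f y = ω → (b : Perm (Fin n)) y = a y := by
      intro y hy
      have h1 := congrArg Subtype.val (congrFun hb ω)
      simp only [Orb.coord, dif_pos] at h1
      have h2 : (a⁻¹ * b : Perm (Fin n)) (O.pt ω) = O.pt ω := by
        rw [Perm.mul_apply, Equiv.Perm.inv_eq_iff_eq]; exact h1
      have h3 := fix_orbit O hA (A.mul_mem (A.inv_mem ha) b.2) h2 ((O.f_pt ω).trans hy.symm)
      rw [Perm.mul_apply, Equiv.Perm.inv_eq_iff_eq] at h3
      exact h3
    have hb2 : ∀ y, O.f y ≠ ω → (b : Perm (Fin n)) y = y := by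
      intro y hy
      refine fix_orbit O hA b.2 (x := O.pt (O.f y)) ?_ (O.f_pt _)
      have h1 := congrArg Subtype.val (congrFun hb (O.f y))
      simpa [Orb.coord, hy] using h1
    let r : Perm {z // O.f z = ω} := (b : Perm (Fin n)).subtypePerm fun z => by rw [O.f_apply b.2 z]
    have hbr : (b : Perm (Fin n)) = Equiv.Perm.ofSubtype r := by
      refine Equiv.ext fun z => ?_
      by_cases hz : O.f z = ω
      · rw [Equiv.Perm.ofSubtype_apply_of_mem r hz]; rfl
      · rw [Equiv.Perm.ofSubtype_apply_of_not_mem r hz, hb2 z hz]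
    have e : {z // O.f z = ω} ≃ Fin 4 := Finite.equivFinOfCardEq h4
    have hodd : sign r = -1 := by
      rw [← Equiv.Perm.sign_permCongr e]
      refine four_odd _ (fun z hz => ?_) (e ⟨x, rfl⟩) (fun hz => hne ?_)
      · have hz' : r (e.symm z) = e.symm z := e.injective (by simpa using hz)
        have h5 : a (e.symm z : Fin n) = e.symm z := (hb1 _ (e.symm z).2).symm.trans (congrArg Subtype.val hz')
        have h6 : a x = x := fix_orbit O hA ha h5 (e.symm z).2
        exact hne (by rw [h6, h6])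
      · have h5 : r (r ⟨x, rfl⟩) = ⟨x, rfl⟩ := e.injective (by simpa using hz)
        have h6 := congrArg Subtype.val h5
        simp only [r, Equiv.Perm.subtypePerm_apply] at h6
        rw [hb1 x rfl, hb1 (a x) (O.f_apply ha x)] at h6
        exact h6
    have := mem_alternatingGroup.1 (heven b.2)
    rw [hbr, Equiv.Perm.sign_ofSubtype, hodd] at this
    exact absurd this (by decide)
  refine ⟨hgood g, fun hg => ?_⟩
  obtain ⟨a, ha⟩ := hbij.2 (fun ω => ⟨g (O.pt ω), by rw [hg.1, O.f_pt]⟩)
  have heq : g = (a : Perm (Fin n)) := Equiv.ext fun y =>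
    good_det (fun x => h34 (O.f x)) hg (hgood a a.2) (O.f_pt (O.f y))
      (congrArg Subtype.val (congrFun ha (O.f y))).symm y rfl
  exact heq ▸ a.2

/-- Maximal abelian subgroups are conjugate. -/
theorem conj {n : ℕ} (hn : 3 ≤ n) (hn5 : n ≠ 5) (A B : Subgroup (Perm (Fin n))) (hA : IsMulCommutative A)
    (hB : IsMulCommutative B) (hAe : A ≤ alternatingGroup (Fin n)) (hBe : B ≤ alternatingGroup (Fin n))
    (hAt : target n ≤ Nat.card A) (hBt : target n ≤ Nat.card B) :
    ∃ g ∈ alternatingGroup (Fin n), B = A.map (MulAut.conj g).toMonoidHom := by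
  classical
  obtain ⟨P⟩ := exists_orb A
  obtain ⟨Q⟩ := exists_orb B
  letI := P.fι; letI := P.dι; letI := Q.fι; letI := Q.dι
  have main : ∀ {C : Subgroup (Perm (Fin n))} (O : Orb C), IsMulCommutative C → C ≤ alternatingGroup (Fin n) →
      target n ≤ Nat.card C → Nat.card C = O.sizes.prod ∧ (∀ ω, O.size ω = 3 ∨ O.size ω = 4) ∧
        O.sizes.count 4 ≤ 2 := by
    intro C O hC hCe hCt
    letI := O.fι
    obtain ⟨h1, h2, h3⟩ := parts hn hn5 O.sum_sizes
      (fun a ha => by obtain ⟨ω, -, rfl⟩ := Multiset.mem_map.1 ha; exact O.size_pos ω)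
      hCt (card_le_prod O hC) (two_mul_le O hC hCe)
    exact ⟨h1, fun ω => h2 _ (Multiset.mem_map_of_mem _ (Finset.mem_univ ω)), h3⟩
  obtain ⟨hPf, hP34, hP4⟩ := main P hA hAe hAt
  obtain ⟨hQf, hQ34, hQ4⟩ := main Q hB hBe hBt
  -- equal numbers of parts of each size
  have split : ∀ {C : Subgroup (Perm (Fin n))} (O : Orb C) [Fintype O.ι], (∀ ω, O.size ω = 3 ∨ O.size ω = 4) →
      3 * Fintype.card {ω // O.size ω = 3} + 4 * Fintype.card {ω // O.size ω = 4} = n ∧
        Fintype.card {ω // O.size ω = 4} = O.sizes.count 4 := by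
    intro C O inst h
    have hi : O.fι = inst := Subsingleton.elim _ _
    subst hi
    letI := O.fι
    refine ⟨?_, ?_⟩
    · have h1 : ∑ ω, O.size ω = n := O.sum_sizes
      rw [← Finset.sum_filter_add_sum_filter_not Finset.univ (fun ω => O.size ω = 3),
        Finset.sum_congr rfl (fun ω hω => (Finset.mem_filter.1 hω).2),
        Finset.sum_congr rfl (fun ω hω => (h ω).resolve_left (Finset.mem_filter.1 hω).2)] at h1
      rw [Finset.sum_const, Finset.sum_const, smul_eq_mul, smul_eq_mul] at h1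
      rw [Fintype.card_subtype, Fintype.card_subtype, mul_comm 3, mul_comm 4,
        show (Finset.univ.filter fun ω => O.size ω = 4) = Finset.univ.filter (fun ω => ¬ O.size ω = 3) from
          Finset.filter_congr fun ω _ => by have := h ω; omega]
      exact h1
    · rw [Fintype.card_subtype, Orb.sizes, Multiset.count_map, Finset.card_def, Finset.filter_val]
      congr 1
      exact Multiset.filter_congr fun ω _ => eq_comm
  have hsP := split P hP34
  have hsQ := split Q hQ34
  have h3eq : Fintype.card {ω // P.size ω = 3} = Fintype.card {ω // Q.size ω = 3} := by omega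
  have h4eq : Fintype.card {ω // ¬ P.size ω = 3} = Fintype.card {ω // ¬ Q.size ω = 3} := by
    have e1 : Fintype.card {ω // ¬ P.size ω = 3} = Fintype.card {ω // P.size ω = 4} :=
      Fintype.card_congr (Equiv.subtypeEquivRight fun ω => by have := hP34 ω; omega)
    have e2 : Fintype.card {ω // ¬ Q.size ω = 3} = Fintype.card {ω // Q.size ω = 4} :=
      Fintype.card_congr (Equiv.subtypeEquivRight fun ω => by have := hQ34 ω; omega)
    omega
  let π : P.ι ≃ Q.ι := (Equiv.sumCompl _).symm.trans
    ((Equiv.sumCongr (Fintype.equivOfCardEq h3eq) (Fintype.equivOfCardEq h4eq)).trans (Equiv.sumCompl _))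
  have hπ : ∀ ω, Q.size (π ω) = P.size ω := by
    intro ω
    by_cases h : P.size ω = 3
    · have e1 : π ω = ((Fintype.equivOfCardEq h3eq ⟨ω, h⟩ : {ω // Q.size ω = 3}) : Q.ι) := by simp [π, h]
      rw [e1]
      rw [(Fintype.equivOfCardEq h3eq ⟨ω, h⟩).2, h]
    · have e1 : π ω = ((Fintype.equivOfCardEq h4eq ⟨ω, h⟩ : {ω // ¬ Q.size ω = 3}) : Q.ι) := by simp [π, h]
      rw [e1]
      have h1 := (hQ34 (Fintype.equivOfCardEq h4eq ⟨ω, h⟩).1).resolve_left (Fintype.equivOfCardEq h4eq ⟨ω, h⟩).2
      rw [h1, (hP34 ω).resolve_left h]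
  let e : ∀ ω, {x // P.f x = ω} ≃ {y // Q.f y = π ω} := fun ω =>
    (Nonempty.some (Finite.card_eq.1 (hπ ω).symm))
  let σ : Perm (Fin n) := (Equiv.sigmaFiberEquiv P.f).symm.trans
    ((Equiv.sigmaCongrRight e).trans ((Equiv.sigmaCongrLeft π (β := fun ω' => {y // Q.f y = ω'})).trans
      (Equiv.sigmaFiberEquiv Q.f)))
  have hσ : ∀ x, Q.f (σ x) = π (P.f x) := fun x => (e (P.f x) ⟨x, rfl⟩).2
  have hcomp : ∀ τ : Perm (Fin n), (∀ x, Q.f (τ x) = π (P.f x)) → B = A.map (MulAut.conj τ).toMonoidHom := by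
    intro τ hτ
    have hinv : ∀ y, π (P.f (τ⁻¹ y)) = Q.f y := fun y => by
      rw [← hτ, show τ (τ⁻¹ y) = y from τ.apply_symm_apply y]
    ext b
    rw [Subgroup.mem_map_equiv, MulAut.conj_symm_apply, eq_good Q hB hBe hQf hQ34, eq_good P hA hAe hPf hP34]
    have hP' : ∀ x y, P.f x = P.f y ↔ Q.f (τ x) = Q.f (τ y) := fun x y => by rw [hτ, hτ, π.injective.eq_iff]
    have hc : ∀ x, Nat.card {z // P.f z = P.f x} = Nat.card {z // Q.f z = Q.f (τ x)} := fun x => by
      rw [hτ]; exact (hπ _).symm
    have hτb : ∀ x, τ ((τ⁻¹ * b * τ) x) = b (τ x) := fun x => by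
      simp [Perm.mul_apply]
    constructor
    · rintro ⟨g1, g2, g3⟩
      refine ⟨fun x => (hP' _ _).2 (by rw [hτb, g1]), fun x y hxy hfix => τ.injective ?_, fun x h4 => τ.injective ?_⟩
      · rw [hτb]; exact g2 _ _ ((hP' x y).1 hxy) (by rw [← hτb, hfix])
      · rw [hτb, hτb]; exact g3 _ (by rw [← hc]; exact h4)
    · rintro ⟨g1, g2, g3⟩
      refine ⟨fun y => ?_, fun x y hxy hfix => ?_, fun y h4 => ?_⟩
      · have h := (hP' _ _).1 (g1 (τ⁻¹ y))
        rw [hτb, show τ (τ⁻¹ y) = y from τ.apply_symm_apply y] at h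
        exact h
      · have h := g2 (τ⁻¹ x) (τ⁻¹ y) ((hP' _ _).2 (by simpa using hxy)) (τ.injective (by rw [hτb]; simpa using hfix))
        have := congrArg τ h
        rw [hτb] at this
        simpa using this
      · have h := g3 (τ⁻¹ y) (by rw [hc]; simpa using h4)
        have := congrArg τ h
        rw [hτb, hτb] at this
        simpa using this
  by_cases hev : σ ∈ alternatingGroup (Fin n)
  · exact ⟨σ, hev, hcomp σ hσ⟩
  obtain ⟨ω⟩ : Nonempty P.ι := ⟨P.f ⟨0, by omega⟩⟩
  have h1 : 1 < Nat.card {x // P.f x = ω} := by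
    have := hP34 ω
    simp only [Orb.size] at this
    omega
  obtain ⟨⟨u, hu⟩, ⟨v, hv⟩, huv⟩ := Finite.one_lt_card_iff_nontrivial.1 h1
  have huv' : u ≠ v := fun e => huv (Subtype.ext e)
  refine ⟨σ * swap u v, ?_, hcomp _ fun x => ?_⟩
  · haveI : Nontrivial (Fin n) := ⟨⟨u, v, huv'⟩⟩
    rw [Subgroup.mul_mem_iff_of_index_two alternatingGroup.index_eq_two]
    refine iff_of_false hev ?_
    rw [mem_alternatingGroup, sign_swap huv']
    decide
  · rw [Perm.mul_apply, hσ]
    congr 1
    rcases eq_or_ne x u with rfl | h1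
    · rw [swap_apply_left, hv, hu]
    rcases eq_or_ne x v with rfl | h2
    · rw [swap_apply_right, hu, hv]
    rw [swap_apply_of_ne_of_ne h1 h2]

/-- The case of five points. -/
theorem card_five (A : Subgroup (alternatingGroup (Fin 5))) (hA : IsMulCommutative A) : Nat.card A ≤ 5 := by
  obtain ⟨s, hs, h0, hd, h2⟩ := Cfsg.Agent.S2504.exists_parts A hA
  have hpos : 0 < s.prod := Nat.pos_of_ne_zero fun h => absurd (Multiset.prod_eq_zero_iff.1 h) fun h' => lt_irrefl 0 (h0 0 h')
  have hP := prod_le_maxProd s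
  rw [hs, show maxProd 5 = 6 from rfl] at hP
  by_contra hlt
  have h6 : Nat.card A = 6 ∧ s.prod = 6 := by have := Nat.le_of_dvd hpos hd; omega
  by_cases h : 2 ∈ s
  · have := h2 h; omega
  · have h3 : ∀ a ∈ s, a = 1 ∨ a = 3 ∨ 4 ≤ a := fun a ha => by
      have := h0 a ha
      have : a ≠ 2 := fun e => h (e ▸ ha)
      omega
    obtain ⟨p, hp, hp2⟩ : ∃ a ∈ s, 2 ∣ a := Prime.exists_mem_multiset_dvd Nat.prime_two.prime (show 2 ∣ s.prod from ⟨3, h6.2⟩)
    obtain ⟨q, hq, hq3⟩ : ∃ a ∈ s, 3 ∣ a := Prime.exists_mem_multiset_dvd Nat.prime_three.prime (show 3 ∣ s.prod from ⟨2, h6.2⟩)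
    have hp4 : 4 ≤ p := by have := h3 p hp; omega
    have hdp := Multiset.dvd_prod hp
    rw [h6.2] at hdp
    have := Nat.le_of_dvd (by norm_num) hdp
    have hp6 : p = 6 := by interval_cases p <;> simp_all +decide
    have := Multiset.le_sum_of_mem hp
    omega

theorem result (n : ℕ) (A B : Subgroup (alternatingGroup (Fin n))) (hA : IsMulCommutative A) (hB : IsMulCommutative B)
    (hAmax : ∀ C : Subgroup (alternatingGroup (Fin n)), IsMulCommutative C → Nat.card C ≤ Nat.card A)
    (hBmax : ∀ C : Subgroup (alternatingGroup (Fin n)), IsMulCommutative C → Nat.card C ≤ Nat.card B) :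
    ∃ g : alternatingGroup (Fin n), B = MulAut.conj g • A := by
  by_cases hn : n < 3
  · have h1 : Subsingleton (alternatingGroup (Fin n)) := by
      interval_cases n
      · exact ⟨fun a b => Subtype.ext (Subsingleton.elim _ _)⟩
      · exact ⟨fun a b => Subtype.ext (Subsingleton.elim _ _)⟩
      · exact Finite.card_le_one_iff_subsingleton.1 (by
          have h := two_mul_nat_card_alternatingGroup (α := Fin 2)
          rw [Nat.card_eq_fintype_card (α := Perm (Fin 2)), Fintype.card_perm, Fintype.card_fin] at h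
          simp only [Nat.factorial] at h
          omega)
    exact ⟨1, Subgroup.ext fun x => by simp [Subsingleton.elim x 1, one_mem]⟩
  by_cases hn5 : n = 5
  · subst hn5
    haveI : Fact (Nat.Prime 5) := ⟨by norm_num⟩
    have hG : Nat.card (alternatingGroup (Fin 5)) = 60 := by
      have h := two_mul_nat_card_alternatingGroup (α := Fin 5)
      rw [Nat.card_eq_fintype_card (α := Perm (Fin 5)), Fintype.card_perm, Fintype.card_fin] at h
      simp only [Nat.factorial] at h
      omega
    obtain ⟨c, hc⟩ := exists_prime_orderOf_dvd_card' (G := alternatingGroup (Fin 5)) 5 (hG ▸ by norm_num)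
    have hC5 : Nat.card (Subgroup.zpowers c) = 5 := by rw [Nat.card_zpowers, hc]
    have hcomm : IsMulCommutative (Subgroup.zpowers c) := inferInstance
    have key : ∀ D : Subgroup (alternatingGroup (Fin 5)), IsMulCommutative D → Nat.card (Subgroup.zpowers c) ≤ Nat.card D →
        ∃ P : Sylow 5 (alternatingGroup (Fin 5)), (P : Subgroup _) = D := by
      intro D hD hle
      have hc5 : Nat.card D = 5 := le_antisymm (card_five D hD) (hC5.ge.trans hle)
      refine ⟨(IsPGroup.of_card (n := 1) (by rw [hc5, pow_one])).toSylow ?_, rfl⟩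
      have h1 := D.card_mul_index
      rw [hc5, hG] at h1
      omega
    obtain ⟨P, hP⟩ := key A hA (hAmax _ hcomm)
    obtain ⟨Q, hQ⟩ := key B hB (hBmax _ hcomm)
    obtain ⟨g, hg⟩ := MulAction.exists_smul_eq (alternatingGroup (Fin 5)) P Q
    refine ⟨g, ?_⟩
    rw [← hP, ← hQ, ← hg]
    rfl
  obtain ⟨C, hC, hCt⟩ := target_attained (n := n) (by omega) hn5
  set At := A.map (alternatingGroup (Fin n)).subtype with hAt
  set Bt := B.map (alternatingGroup (Fin n)).subtype with hBt
  have hc : ∀ D : Subgroup (alternatingGroup (Fin n)), Nat.card (D.map (alternatingGroup (Fin n)).subtype) = Nat.card D :=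
    fun D => Subgroup.card_map_of_injective Subtype.val_injective
  have hcm : ∀ D : Subgroup (alternatingGroup (Fin n)), IsMulCommutative D →
      IsMulCommutative (D.map (alternatingGroup (Fin n)).subtype) := fun D hD => ⟨⟨by
    rintro ⟨_, x, hx, rfl⟩ ⟨_, y, hy, rfl⟩
    exact Subtype.ext (congrArg (fun z : D => ((z : alternatingGroup (Fin n)) : Perm (Fin n))) (hD.is_comm.comm ⟨x, hx⟩ ⟨y, hy⟩))⟩⟩
  obtain ⟨g, hg, hBA⟩ := conj (by omega : 3 ≤ n) hn5 At Bt (hcm A hA) (hcm B hB) (Subgroup.map_subtype_le _)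
    (Subgroup.map_subtype_le _) (by rw [hc, ← hCt]; exact hAmax C hC) (by rw [hc, ← hCt]; exact hBmax C hC)
  refine ⟨⟨g, hg⟩, Subgroup.map_injective (alternatingGroup (Fin n)).subtype_injective ?_⟩
  rw [← hBt, hBA, hAt, show MulAut.conj (⟨g, hg⟩ : alternatingGroup (Fin n)) • A = A.map (MulAut.conj (⟨g, hg⟩ : alternatingGroup (Fin n))).toMonoidHom from rfl,
    Subgroup.map_map, Subgroup.map_map]
  rfl

end CfsgLib.SymHall.AltMaxAbelian
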