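import Mathlib

/-!
# Binomial coefficients without small prime divisors

If `2 ≤ b ≤ a` and no prime `p ≤ a` divides `C(a + b, b)`, then `(a, b) = (4, 3)`.
-/

set_option autoImplicit false

open scoped Pointwise

namespace CfsgLib.SymHall

theorem gcd_dvd_left_of {x b c : ℕ} (h : ∀ d, d ∣ x → d ∣ b → d ∣ c) : Nat.gcd x b ∣ c :=
  h _ (Nat.gcd_dvd_left x b) (Nat.gcd_dvd_right x b)

theorem gcd_mul_dvd (x u v : ℕ) : Nat.gcd x (u * v) ∣ Nat.gcd x u * Nat.gcd x v :=
  Nat.gcd_mul_right_dvd_mul_gcd x u v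

theorem no_square {D : ℕ} (hD : D ∣ 1411200) (h3 : D % 3 = 2) (h20 : 20 ≤ D) (h32 : D ≠ 32) :
    Nat.sqrt (13 * ((D - 20) / 3 + 5) * ((D - 20) / 3 + 5) + 9 - 18 * ((D - 20) / 3 + 5)) ^ 2
      ≠ 13 * ((D - 20) / 3 + 5) * ((D - 20) / 3 + 5) + 9 - 18 * ((D - 20) / 3 + 5) := by
  have hdiv : ∀ D ∈ Nat.divisors 128 * (Nat.divisors 9 * (Nat.divisors 25 * Nat.divisors 49)),
      D % 3 = 2 → 20 ≤ D → D ≠ 32 → Nat.sqrt (13 * ((D - 20) / 3 + 5) * ((D - 20) / 3 + 5) + 9 - 18 * ((D - 20) / 3 + 5)) ^ 2
        ≠ 13 * ((D - 20) / 3 + 5) * ((D - 20) / 3 + 5) + 9 - 18 * ((D - 20) / 3 + 5) := by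
    decide +kernel
  refine hdiv D ?_ h3 h20 h32
  have key : ∀ N : ℕ, N = 128 * (9 * (25 * 49)) → D ∣ N →
      D ∈ Nat.divisors 128 * (Nat.divisors 9 * (Nat.divisors 25 * Nat.divisors 49)) := by
    intro N hN hd
    rw [← Nat.divisors_mul, ← Nat.divisors_mul, ← Nat.divisors_mul, ← hN]
    exact Nat.mem_divisors.2 ⟨hd, by omega⟩
  exact key 1411200 (by norm_num) hD

variable {a b : ℕ} (h : ∀ p : ℕ, p.Prime → p ≤ a → ¬ p ∣ (a + b).choose b)

include h in
/-- A composite number at most `a + b` that divides a multiple of the coefficient divides the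
cofactor. -/
theorem dvd_of_composite (hba : b ≤ a) {x N : ℕ} (h2 : 2 ≤ x) (hx : x ≤ a + b) (hnp : ¬ x.Prime)
    (hd : x ∣ (a + b).choose b * N) : x ∣ N := by
  refine Nat.Coprime.dvd_of_dvd_mul_left ?_ hd
  refine Nat.coprime_of_dvd fun p hp hpx hpC => h p hp ?_ hpC
  obtain ⟨t, rfl⟩ := hpx
  have ht : 2 ≤ t := by
    rcases t with _ | _ | t
    · simp at h2
    · simp [hp] at hnp
    · omega
  have : p * 2 ≤ p * t := Nat.mul_le_mul_left p ht
  omega

/-- The top numbers of the interval divide the coefficient times the top of the lower product. -/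
theorem top_dvd {j : ℕ} (hj : j < b) : a + b - j ∣ (a + b).choose b * b.descFactorial (j + 1) := by
  have h1 : (a + b).choose b * b.choose (j + 1) = (a + b).choose (j + 1) * (a + b - (j + 1)).choose (b - (j + 1)) :=
    Nat.choose_mul (by omega) 
  rw [Nat.descFactorial_eq_factorial_mul_choose, mul_left_comm, h1, ← mul_assoc,
    ← Nat.descFactorial_eq_factorial_mul_choose, Nat.descFactorial_succ, mul_assoc]
  exact Dvd.intro _ rfl

/-- The bottom numbers of the interval divide the coefficient times the top of the lower product. -/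
theorem bottom_dvd {j : ℕ} (hj : j < b) : a + 1 + j ∣ (a + b).choose b * b.descFactorial (j + 1) := by
  have key : ∀ j, j < b → (a + b).choose b * b.descFactorial (j + 1) =
      (a + 1 + j).descFactorial (j + 1) * (a + b).choose (b - (j + 1)) := by
    intro j
    induction j with
    | zero =>
      intro hb
      have := Nat.choose_succ_right_eq (a + b) (b - 1)
      rw [show b - 1 + 1 = b by omega, show a + b - (b - 1) = a + 1 by omega] at this
      simp [this, mul_comm]
    | succ j ih =>
      intro hb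
      have h1 := Nat.choose_succ_right_eq (a + b) (b - (j + 2))
      rw [show b - (j + 2) + 1 = b - (j + 1) by omega, show a + b - (b - (j + 2)) = a + 1 + (j + 1) by omega] at h1
      rw [Nat.descFactorial_succ, mul_left_comm, ih (by omega),
        show a + 1 + (j + 1) = a + 1 + j + 1 by omega, Nat.succ_descFactorial_succ]
      rw [show a + 1 + (j + 1) = a + 1 + j + 1 by omega] at h1
      calc (b - (j + 1)) * ((a + 1 + j).descFactorial (j + 1) * (a + b).choose (b - (j + 1)))
          = (a + 1 + j).descFactorial (j + 1) * ((a + b).choose (b - (j + 1)) * (b - (j + 1))) := by ring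
        _ = _ := by rw [h1]; ring
  rw [key j hj, show a + 1 + j = (a + j) + 1 by omega, Nat.succ_descFactorial_succ, mul_assoc]
  exact Dvd.intro _ rfl

set_option maxHeartbeats 800000 in
include h in
/-- The main lemma. -/
theorem binom_primes (hb : 2 ≤ b) (hba : b ≤ a) : a = 4 ∧ b = 3 := by
  have hC := fun {x N : ℕ} => dvd_of_composite h hba (x := x) (N := N)
  -- the two ends are primes
  have hn : (a + b).Prime := by
    by_contra hnp
    have := hC (by omega) le_rfl hnp (show a + b ∣ (a + b).choose b * b from by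
      simpa using top_dvd (a := a) (j := 0) (b := b) (by omega))
    have := Nat.le_of_dvd (by omega) this
    omega
  have ha1 : (a + 1).Prime := by
    by_contra hnp
    have := hC (by omega) (by omega) hnp (show a + 1 ∣ (a + b).choose b * b from by
      simpa using bottom_dvd (a := a) (j := 0) (b := b) (by omega))
    have := Nat.le_of_dvd (by omega) this
    omega
  have hn2 : (a + b) % 2 = 1 := hn.eq_two_or_odd.resolve_left (by omega)
  have ha2 : (a + 1) % 2 = 1 := ha1.eq_two_or_odd.resolve_left (by omega)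
  have hb3 : 3 ≤ b := by omega
  have heven : ∀ x : ℕ, 4 ≤ x → x % 2 = 0 → ¬ x.Prime := fun x h4 he hp => by
    have := hp.eq_two_or_odd
    omega
  -- the next two numbers
  have hdf2 : b.descFactorial 2 = b * (b - 1) := by
    simp [Nat.descFactorial_succ]; ring
  have hX : a + b - 1 ∣ b * (b - 1) := hdf2 ▸
    hC (by omega) (by omega) (heven _ (by omega) (by omega)) (top_dvd (j := 1) (by omega))
  have hY : a + 2 ∣ b * (b - 1) := hdf2 ▸
    hC (by omega) (by omega) (heven _ (by omega) (by omega)) (by simpa [add_assoc] using bottom_dvd (a := a) (b := b) (j := 1) (by omega))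
  set B := b * (b - 1) with hB
  have hd6 : Nat.gcd (a + b - 1) (a + 2) ∣ 6 := by
    refine gcd_dvd_left_of fun d d1 d2 => ?_
    have h3 : d ∣ b - 3 := by
      have := Nat.dvd_sub d1 d2
      rwa [show a + b - 1 - (a + 2) = b - 3 by omega] at this
    obtain ⟨k, hk⟩ : ∃ k, b = k + 3 := ⟨b - 3, by omega⟩
    rw [hB] at hX
    subst hk
    rw [Nat.add_sub_cancel] at h3
    have hd := d1.trans hX
    rw [show (k + 3) * (k + 3 - 1) = k * (k + 5) + 6 by rw [show k + 3 - 1 = k + 2 by omega]; ring] at hd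
    exact (Nat.dvd_add_right (h3.mul_right _)).1 hd
  obtain ⟨q, hq⟩ : (a + b - 1) * (a + 2) ∣ 6 * B := by
    rw [← Nat.gcd_mul_lcm (a + b - 1) (a + 2)]
    exact Nat.mul_dvd_mul hd6 (Nat.lcm_dvd hX hY)
  obtain ⟨a', rfl⟩ : ∃ a', a = b + a' := ⟨a - b, by omega⟩
  have hBsq : B + b = b * b := by
    rw [hB, Nat.mul_sub, mul_one]
    have := Nat.le_mul_self b
    omega
  have hprod : 2 * B < (b + a' + b - 1) * (b + a' + 2) := by
    obtain ⟨t, ht⟩ : ∃ t, b + a' + b - 1 = t ∧ t + 1 = b + a' + b := ⟨_, rfl, by omega⟩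
    rw [ht.1]
    nlinarith [ht.2]
  have hBpos : 0 < B := Nat.mul_pos (by omega) (by omega)
  rcases q with _ | _ | _ | q
  · omega
  · -- `a = 2 b - 2`
    obtain ⟨k, rfl⟩ : ∃ k, b = k + 1 := ⟨b - 1, by omega⟩
    rw [show k + 1 + a' + (k + 1) - 1 = 2 * k + 1 + a' by omega] at hq hprod
    rw [show k + 1 - 1 = k by omega] at hB
    have ha' : a' = k - 1 := by
      rcases Nat.lt_trichotomy (a' + 1) k with hlt | heq | hgt
      · exfalso; nlinarith
      · omega
      · exfalso; nlinarith
    clear hq hprod hX hY hBsq hd6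
    by_cases hk : k = 2
    · omega
    exfalso
    have hk4 : 4 ≤ k := by omega
    have hxe : (3 * k - 2) % 2 = 0 := by omega
    have hx : 3 * k - 2 ∣ (k + 1).descFactorial 4 := by
      have := hC (x := k + 1 + a' + (k + 1) - 3) (by omega) (by omega) (heven _ (by omega) (by omega)) (top_dvd (j := 3) (by omega))
      rwa [show k + 1 + a' + (k + 1) - 3 = 3 * k - 2 by omega] at this
    have hdf : (k + 1).descFactorial 4 = (k + 1) * k * (k - 1) * (k - 2) := by
      simp only [Nat.descFactorial_succ, Nat.descFactorial_zero]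
      rw [show k + 1 - 0 = k + 1 by omega, show k + 1 - 1 = k by omega, show k + 1 - 2 = k - 1 by omega,
        show k + 1 - 3 = k - 2 by omega]
      ring
    rw [hdf] at hx
    set x := 3 * k - 2 with hxdef
    have g1 : Nat.gcd x (k + 1) ∣ 5 := gcd_dvd_left_of fun d d1 d2 => by
      have := Nat.dvd_sub (d2.mul_left 3) d1
      rwa [show 3 * (k + 1) - x = 5 by omega] at this
    have g2 : Nat.gcd x k ∣ 2 := gcd_dvd_left_of fun d d1 d2 => by
      have := Nat.dvd_sub (d2.mul_left 3) d1
      rwa [show 3 * k - x = 2 by omega] at this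
    have g3 : Nat.gcd x (k - 1) ∣ 1 := gcd_dvd_left_of fun d d1 d2 => by
      have := Nat.dvd_sub d1 (d2.mul_left 3)
      rwa [show x - 3 * (k - 1) = 1 by omega] at this
    have g4 : Nat.gcd x (k - 2) ∣ 4 := gcd_dvd_left_of fun d d1 d2 => by
      have := Nat.dvd_sub d1 (d2.mul_left 3)
      rwa [show x - 3 * (k - 2) = 4 by omega] at this
    have h40 : x ∣ 40 := by
      have h5 := Nat.gcd_eq_left hx
      have := ((gcd_mul_dvd x _ _).trans (Nat.mul_dvd_mul_right ((gcd_mul_dvd x _ _).trans
        (Nat.mul_dvd_mul_right (gcd_mul_dvd x _ _) _)) _)).trans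
          (Nat.mul_dvd_mul (Nat.mul_dvd_mul (Nat.mul_dvd_mul g1 g2) g3) g4)
      rw [h5] at this
      exact this
    have hk14 : k ≤ 14 := by have := Nat.le_of_dvd (by norm_num) h40; omega
    have hp7 := hn
    have hp1 := ha1
    interval_cases k <;> simp_all +decide
    all_goals exact h 2 Nat.prime_two (by norm_num) (by rw [Nat.choose_eq_descFactorial_div_factorial]; decide +kernel)
  · -- the product equals `3 b (b - 1)`
    exfalso
    obtain ⟨k, rfl⟩ : ∃ k, b = k + 1 := ⟨b - 1, by omega⟩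
    rw [show k + 1 + a' + (k + 1) - 1 = 2 * k + 1 + a' by omega] at hq hprod hX
    rw [show k + 1 - 1 = k by omega] at hB
    have hK : (2 * k + 1 + a') * (k + 1 + a' + 2) = 3 * B := by linarith
    by_cases hb5 : k < 4
    · have : a' ≤ k := by nlinarith
      interval_cases k <;> interval_cases a' <;> simp_all +decide
    set x := k + 1 + a' + (k + 1) - 3 with hxdef
    set y := k + 1 + a' + 4 with hydef
    have hx : x ∣ (k + 1).descFactorial 4 :=
      hC (by omega) (by omega) (heven _ (by omega) (by omega)) (top_dvd (j := 3) (by omega))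
    have hy : y ∣ (k + 1).descFactorial 4 :=
      hC (by omega) (by omega) (heven _ (by omega) (by omega))
        (by simpa [hydef, add_assoc] using bottom_dvd (a := k + 1 + a') (b := k + 1) (j := 3) (by omega))
    have hdf : (k + 1).descFactorial 4 = B * ((k - 1) * (k - 2)) := by
      simp only [Nat.descFactorial_succ, Nat.descFactorial_zero, hB]
      rw [show k + 1 - 0 = k + 1 by omega, show k + 1 - 1 = k by omega, show k + 1 - 2 = k - 1 by omega,
        show k + 1 - 3 = k - 2 by omega]
      ring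
    rw [hdf] at hx hy
    obtain ⟨l, rfl⟩ : ∃ l, k = l + 4 := ⟨k - 4, by omega⟩
    have h60 : ∀ z, (z ∣ 2 * (l + 4) + 1 + a' ∨ z ∣ l + 4 + 1 + a' + 2) → z ∣ l → z ∣ 60 := by
      intro z hz hl
      have hz3 : z ∣ 3 * B := by
        rw [← hK]; exact hz.elim (fun h => h.mul_right _) (fun h => h.mul_left _)
      rw [hB, show 3 * ((l + 4 + 1) * (l + 4)) = l * (3 * (l + 9)) + 60 by ring] at hz3
      exact (Nat.dvd_add_right (hl.mul_right _)).1 hz3
    have gB : ∀ z, (Nat.gcd z (2 * (l + 4) + 1 + a') * Nat.gcd z (l + 4 + 1 + a' + 2) ∣ 120) → Nat.gcd z B ∣ 120 :=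
      fun z hz => (Nat.gcd_dvd_gcd_of_dvd_right z (show B ∣ (2 * (l + 4) + 1 + a') * (l + 4 + 1 + a' + 2) from hK ▸ Dvd.intro_left _ rfl)).trans
        ((gcd_mul_dvd z _ _).trans hz)
    have gx : Nat.gcd x B ∣ 120 := gB x <| by
      refine Nat.mul_dvd_mul (show _ ∣ 2 from gcd_dvd_left_of fun d d1 d2 => ?_)
        (show _ ∣ 60 from gcd_dvd_left_of fun d d1 d2 => h60 d (Or.inr d2) ?_)
      · have := Nat.dvd_sub d2 d1
        rwa [show 2 * (l + 4) + 1 + a' - x = 2 by omega] at this
      · have := Nat.dvd_sub d1 d2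
        rwa [show x - (l + 4 + 1 + a' + 2) = l by omega] at this
    have gy : Nat.gcd y B ∣ 120 := gB y <| by
      rw [mul_comm]
      refine Nat.mul_dvd_mul (show _ ∣ 2 from gcd_dvd_left_of fun d d1 d2 => ?_)
        (show _ ∣ 60 from gcd_dvd_left_of fun d d1 d2 => h60 d (Or.inl d2) ?_)
      · have := Nat.dvd_sub d1 d2
        rwa [show y - (l + 4 + 1 + a' + 2) = 2 by omega] at this
      · have := Nat.dvd_sub d2 d1
        rwa [show 2 * (l + 4) + 1 + a' - y = l by omega] at this
    rw [show l + 4 - 1 = l + 3 by omega, show l + 4 - 2 = l + 2 by omega] at hx hy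
    have key : ∀ z, Nat.gcd z B ∣ 120 → z ∣ B * ((l + 3) * (l + 2)) → z ∣ 120 * ((l + 3) * (l + 2)) := by
      intro z hg hz
      have h1 := gcd_mul_dvd z B ((l + 3) * (l + 2))
      rw [Nat.gcd_eq_left hz] at h1
      exact h1.trans (Nat.mul_dvd_mul hg (Nat.gcd_dvd_right _ _))
    have hg840 : Nat.gcd x y ∣ 840 := gcd_dvd_left_of fun d d1 d2 => by
      have h7 : (d : ℤ) ∣ (l : ℤ) - 2 := by
        have h1 : (x : ℤ) - y = (l : ℤ) - 2 := by omega
        rw [← h1]
        exact dvd_sub (Int.natCast_dvd_natCast.2 d1) (Int.natCast_dvd_natCast.2 d2)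
      have hd : (d : ℤ) ∣ ((l : ℤ) + 5) * (l + 4) * ((l + 3) * (l + 2)) := by
        have h1 := Int.natCast_dvd_natCast.2 (d1.trans hx)
        rw [hB] at h1
        push_cast at h1
        convert h1 using 1
        ring
      obtain ⟨t, ht⟩ := h7
      have hl : (l : ℤ) = 2 + d * t := by linarith
      rw [hl] at hd
      have : (d : ℤ) ∣ 840 := by
        obtain ⟨s, hs⟩ := hd
        exact ⟨s - t * (638 + 179 * (d * t) + 22 * (d * t) ^ 2 + (d * t) ^ 3), by linear_combination hs⟩
      exact_mod_cast this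
    have hxy : x * y ∣ 840 * (120 * ((l + 3) * (l + 2))) := by
      rw [← Nat.gcd_mul_lcm x y]
      exact Nat.mul_dvd_mul hg840 (Nat.lcm_dvd (key x gx hx) (key y gy hy))
    have hfac : x * y = (l + 3) * (3 * l + 20) := by
      have h1 : x = 2 * l + 7 + a' := by omega
      have h2 : y = l + 9 + a' := by omega
      rw [hB] at hK
      rw [h1, h2]
      linear_combination hK
    rw [hfac, show 840 * (120 * ((l + 3) * (l + 2))) = (l + 3) * (100800 * (l + 2)) by ring] at hxy
    have h14 : 3 * l + 20 ∣ 1411200 := by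
      have h1 := Nat.dvd_of_mul_dvd_mul_left (by omega) hxy
      have h2 : 3 * l + 20 ∣ 100800 * (3 * l + 20) := Dvd.intro_left _ rfl
      have h3 := Nat.dvd_sub h2 (h1.mul_left 3)
      rwa [show 100800 * (3 * l + 20) - 3 * (100800 * (l + 2)) = 1411200 by omega] at h3
    have hsum : (2 * (l + 5 + a') + (l + 5) + 1) ^ 2 + 18 * (l + 5) = 13 * (l + 5) * (l + 5) + 9 := by
      rw [hB] at hK
      linear_combination 4 * hK
    by_cases hl4 : l = 4
    · subst hl4
      have ha1' : a' ≤ 1 := by nlinarith [hsum]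
      have ha2' : a' = 1 := by
        rcases Nat.eq_zero_or_pos a' with rfl | h0
        · norm_num at hsum
        · omega
      subst ha2'
      exact h 2 Nat.prime_two (by norm_num) (by rw [Nat.choose_eq_descFactorial_div_factorial]; decide +kernel)
    refine no_square h14 (by omega) (by omega) (by omega) ?_
    rw [show (3 * l + 20 - 20) / 3 = l by omega]
    have hsq : 13 * (l + 5) * (l + 5) + 9 - 18 * (l + 5) = (2 * (l + 5 + a') + (l + 5) + 1) ^ 2 := by omega
    rw [hsq, Nat.sqrt_eq']
  · have h3 : (b + a' + b - 1) * (b + a' + 2) * 3 ≤ (b + a' + b - 1) * (b + a' + 2) * (q + 3) :=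
      Nat.mul_le_mul_left _ (by omega)
    linarith

end CfsgLib.SymHall
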