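import Mathlib
import Cfsg.Agent.Lib.SymHall.Binom
import Cfsg.Agent.Lib.Fusion.SylowTools
import Cfsg.Agent.Lib.Recognition.JordanAlt

/-!
# Tools for Hall subgroups of groups between the alternating and the symmetric group
-/

set_option autoImplicit false

open scoped Pointwise Nat
open Equiv Equiv.Perm MulAction

namespace CfsgLib.SymHall

variable {α : Type} [Fintype α] [DecidableEq α]

/-- `M` is a `π`-group inside `G` of index prime to `π`. -/
def HallIn {H : Type} [Group H] (π : Set ℕ) (M G : Subgroup H) : Prop :=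
  M ≤ G ∧ (∀ p : ℕ, p.Prime → p ∣ Nat.card M → p ∈ π) ∧ ∀ p : ℕ, p.Prime → p ∈ π → ¬ p ∣ M.relIndex G

theorem HallIn.mid {H : Type} [Group H] {π : Set ℕ} {M G K : Subgroup H} (h : HallIn π M G) (h1 : M ≤ K) (h2 : K ≤ G) :
    HallIn π M K ∧ ∀ p : ℕ, p.Prime → p ∈ π → ¬ p ∣ K.relIndex G := by
  have e := Subgroup.relIndex_mul_relIndex M K G h1 h2
  exact ⟨⟨h1, h.2.1, fun p hp hπ hd => h.2.2 p hp hπ (e ▸ hd.mul_right _)⟩,
    fun p hp hπ hd => h.2.2 p hp hπ (e ▸ hd.mul_left _)⟩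

theorem HallIn.map {H H' : Type} [Group H] [Group H'] {π : Set ℕ} {M G : Subgroup H} (h : HallIn π M G)
    (f : ↥G →* H') : HallIn π ((M.subgroupOf G).map f) f.range := by
  refine ⟨Subgroup.map_le_range _ _, fun p hp hd => h.2.1 p hp ?_, fun p hp hπ hd => h.2.2 p hp hπ ?_⟩
  · rw [← Nat.card_congr (Subgroup.subgroupOfEquivOfLe h.1).toEquiv]
    exact hd.trans (Subgroup.card_map_dvd _ _)
  · have := Subgroup.index_map_dvd (M.subgroupOf G) f.rangeRestrict_surjective
    refine (hd.trans (?_ : _ ∣ M.relIndex G))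
    refine dvd_trans (dvd_of_eq ?_) this
    rw [Subgroup.relIndex]
    congr 1
    ext ⟨y, hy⟩
    simp [Subgroup.mem_subgroupOf, Subgroup.mem_map, MonoidHom.rangeRestrict, Subtype.ext_iff]
    rfl

theorem HallIn.kernel {H : Type} [Group H] [Finite H] {π : Set ℕ} {M G : Subgroup H} (h : HallIn π M G)
    (N : Subgroup H) (hNG : N ≤ G) (hn : ∀ g ∈ G, ∀ x ∈ N, g * x * g⁻¹ ∈ N) :
    HallIn π (M ⊓ N) N := by
  refine ⟨inf_le_right, fun p hp hd => h.2.1 p hp (hd.trans (Subgroup.card_dvd_of_le inf_le_left)),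
    fun p hp hπ hd => h.2.2 p hp hπ ?_⟩
  haveI : (N.subgroupOf G).Normal := ⟨fun x hx g => hn g g.2 x hx⟩
  have h1 : (M ⊓ N).relIndex N = (M.subgroupOf G).relIndex (N.subgroupOf G) := by
    rw [Subgroup.inf_relIndex_right, Subgroup.relIndex_subgroupOf hNG]
  rw [h1] at hd
  refine hd.trans ?_
  set M' := M.subgroupOf G with hM'
  set N' := N.subgroupOf G with hN'
  have e1 := Subgroup.relIndex_mul_relIndex (M' ⊓ N') M' (M' ⊔ N') inf_le_left le_sup_left
  have e2 := Subgroup.relIndex_mul_relIndex (M' ⊓ N') N' (M' ⊔ N') inf_le_right le_sup_right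
  have e4 : N'.relIndex (M' ⊔ N') = N'.relIndex M' := by simp [Subgroup.relIndex_sup_left, Subgroup.relIndex_sup_right, sup_comm]
  rw [e4, ← e1, Subgroup.inf_relIndex_right, Subgroup.inf_relIndex_left, mul_comm] at e2
  have e3 : M'.relIndex N' = M'.relIndex (M' ⊔ N') := by
    exact Nat.eq_of_mul_eq_mul_left (Nat.pos_of_ne_zero (Subgroup.index_ne_zero_of_finite (H := N'.subgroupOf M'))) e2
  rw [e3]
  exact Subgroup.relIndex_dvd_index_of_le le_sup_left

/-- Groups containing the alternating group. -/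
theorem eq_alt_or_top {G : Subgroup (Perm α)} (hG : alternatingGroup α ≤ G) (hn : 2 ≤ Fintype.card α) :
    G = alternatingGroup α ∨ G = ⊤ := by
  haveI : Nontrivial α := Fintype.one_lt_card_iff_nontrivial.1 hn
  by_cases h : G ≤ alternatingGroup α
  · exact Or.inl (le_antisymm h hG)
  right
  obtain ⟨x, hx, hxA⟩ := SetLike.not_le_iff_exists.1 h
  refine eq_top_iff.2 fun y _ => ?_
  by_cases hy : y ∈ alternatingGroup α
  · exact hG hy
  have : y * x ∈ alternatingGroup α := (Subgroup.mul_mem_iff_of_index_two alternatingGroup.index_eq_two).2 (iff_of_false hy hxA)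
  simpa using G.mul_mem (hG this) (G.inv_mem hx)

/-- A subgroup with an odd element keeps its index. -/
theorem relIndex_inf_eq_index {G Y : Subgroup (Perm α)} (hG : alternatingGroup α ≤ G) (hn : 2 ≤ Fintype.card α)
    {y : Perm α} (hy : y ∈ Y) (hodd : sign y = -1) : (Y ⊓ G).relIndex G = Y.index := by
  haveI : Nontrivial α := Fintype.one_lt_card_iff_nontrivial.1 hn
  rcases eq_alt_or_top hG hn with rfl | rfl
  · have hA : (alternatingGroup α).relIndex Y = 2 := by
      have h1 : (alternatingGroup α).relIndex Y ∣ 2 :=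
        alternatingGroup.index_eq_two (α := α) ▸ Subgroup.relIndex_dvd_index_of_normal _ _
      refine ((Nat.dvd_prime Nat.prime_two).1 h1).resolve_left fun h => ?_
      have := Subgroup.relIndex_eq_one.1 h hy
      rw [mem_alternatingGroup, hodd] at this
      exact absurd this (by decide)
    have e1 := Subgroup.relIndex_mul_index (inf_le_left : Y ⊓ alternatingGroup α ≤ Y)
    have e2 := Subgroup.relIndex_mul_index (inf_le_right : Y ⊓ alternatingGroup α ≤ alternatingGroup α)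
    rw [Subgroup.inf_relIndex_left, hA] at e1
    rw [alternatingGroup.index_eq_two] at e2
    omega
  · simp

theorem prime_dvd_card {G : Subgroup (Perm α)} (hG : alternatingGroup α ≤ G) (h4 : 4 ≤ Fintype.card α)
    {r : ℕ} (hr : r.Prime) (hrn : r ≤ Fintype.card α) : r ∣ Nat.card G := by
  haveI : Nontrivial α := Fintype.one_lt_card_iff_nontrivial.1 (by omega)
  refine dvd_trans ?_ (Subgroup.card_dvd_of_le hG)
  have h := two_mul_nat_card_alternatingGroup (α := α)
  rw [Nat.card_eq_fintype_card (α := Perm α), Fintype.card_perm] at h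
  rcases hr.eq_two_or_odd with rfl | hodd
  · have : 4 * 1 ∣ (Fintype.card α)! := Nat.dvd_factorial (by norm_num) (by omega)
    omega
  · exact ((Nat.coprime_primes hr Nat.prime_two).2 (by omega)).dvd_of_dvd_mul_left
      (h ▸ (hr.dvd_factorial).2 hrn)

/-- Every `p`-subgroup of `G` moves into `M`. -/
theorem conj_into {π : Set ℕ} {M G P : Subgroup (Perm α)} (h : HallIn π M G) {p : ℕ} (hp : p.Prime)
    (hpπ : p ∈ π) (hP : IsPGroup p P) (hPG : P ≤ G) : ∃ g : Perm α, ∀ u ∈ P, g * u * g⁻¹ ∈ M := by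
  haveI : Fact p.Prime := ⟨hp⟩
  obtain ⟨R, -⟩ := IsPGroup.exists_le_sylow (IsPGroup.of_bot : IsPGroup p (⊥ : Subgroup M))
  set R' := (R : Subgroup M).map M.subtype with hR'
  have hRM : R' ≤ M := Subgroup.map_subtype_le _
  have hi : ¬ p ∣ R'.relIndex G := by
    rw [← Subgroup.relIndex_mul_relIndex R' M G hRM h.1]
    intro hd
    rcases hp.dvd_mul.1 hd with hd | hd
    · rw [hR', Subgroup.relIndex, Subgroup.subgroupOf,
        Subgroup.comap_map_eq_self_of_injective M.subtype_injective] at hd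
      exact R.not_dvd_index hd
    · exact h.2.2 p hp hpπ hd
  obtain ⟨g, -, hg⟩ := CfsgLib.Fusion.exists_conj_mem_of_le hP (R.2.map _) hPG (hRM.trans h.1) hi
  exact ⟨g, fun u hu => hRM (hg u hu)⟩

/-- A `p`-cycle in `M`, for odd `p`. -/
theorem exists_cycle {π : Set ℕ} {M G : Subgroup (Perm α)} (h : HallIn π M G) (hG : alternatingGroup α ≤ G)
    {p : ℕ} (hp : p.Prime) (hp2 : p ≠ 2) (hpπ : p ∈ π) (hpn : p ≤ Fintype.card α) :
    ∃ c ∈ M, c.IsCycle ∧ c.support.card = p ∧ orderOf c = p := by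
  haveI : Fact p.Prime := ⟨hp⟩
  obtain ⟨S, -, hS⟩ := Finset.exists_subset_card_eq (s := (Finset.univ : Finset α)) (n := p) (by simpa using hpn)
  have hne : S.toList ≠ [] := by
    intro he
    have := Finset.length_toList S
    rw [he, hS] at this
    exact hp.pos.ne this
  set c := S.toList.formPerm with hc
  have hlen : 2 ≤ S.toList.length := by rw [Finset.length_toList, hS]; exact hp.two_le
  have hcyc : c.IsCycle := List.isCycle_formPerm S.nodup_toList hlen
  have hsupp : c.support.card = p := by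
    rw [hc, List.support_formPerm_of_nodup _ S.nodup_toList fun x hx => by
      rw [hx] at hlen; simp at hlen]
    rw [Finset.toList_toFinset, hS]
  have hord : orderOf c = p := by rw [hcyc.orderOf, hsupp]
  have hcA : c ∈ alternatingGroup α := by
    rw [mem_alternatingGroup, hcyc.sign, hsupp, (hp.odd_of_ne_two hp2).neg_one_pow, neg_neg]
  obtain ⟨g, hg⟩ := conj_into h hp hpπ (P := Subgroup.zpowers c)
    (IsPGroup.of_card (n := 1) (by rw [Nat.card_zpowers, hord, pow_one])) (Subgroup.zpowers_le.2 (hG hcA))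
  refine ⟨g * c * g⁻¹, hg c (Subgroup.mem_zpowers c), hcyc.conj, ?_, ?_⟩
  swap
  · rw [hcyc.conj.orderOf, Equiv.Perm.support_conj, Finset.card_map, hsupp]
  rw [Equiv.Perm.support_conj, Finset.card_map, hsupp]

set_option synthInstance.maxSize 1024 in
theorem klein_cases : ∀ a b c d : Fin 4, (a ≠ b ∧ a ≠ c ∧ a ≠ d ∧ b ≠ c ∧ b ≠ d ∧ c ≠ d) →
    (swap a b * swap c d = swap 0 1 * swap 2 3 ∨ swap a b * swap c d = swap 0 2 * swap 1 3 ∨
      swap a b * swap c d = swap 0 3 * swap 1 2) := by decide +kernel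

/-- The double transpositions on four points. -/
theorem exists_quad {π : Set ℕ} {M G : Subgroup (Perm α)} (h : HallIn π M G) (hG : alternatingGroup α ≤ G)
    (h2 : 2 ∈ π) (hn : 4 ≤ Fintype.card α) :
    ∃ Γ : Finset α, Γ.card = 4 ∧ ∀ a b c d : α, a ∈ Γ → b ∈ Γ → c ∈ Γ → d ∈ Γ →
      a ≠ b → a ≠ c → a ≠ d → b ≠ c → b ≠ d → c ≠ d → swap a b * swap c d ∈ M := by
  obtain ⟨ι⟩ := Function.Embedding.nonempty_of_card_le (α := Fin 4) (β := α) (by simpa using hn)
  have via : ∀ a b : Fin 4, (swap a b).viaEmbedding ι = swap (ι a) (ι b) := by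
    intro a b
    refine Equiv.ext fun x => ?_
    by_cases hx : x ∈ Set.range ι
    · obtain ⟨y, rfl⟩ := hx
      rw [viaEmbedding_apply]
      exact (ι.injective.swap_apply a b y).symm
    · rw [viaEmbedding_apply_of_notMem _ ι x hx, swap_apply_of_ne_of_ne] <;>
        exact fun e => hx ⟨_, e.symm⟩
  let K : Subgroup (Perm (Fin 4)) :=
    { carrier := {g | g = 1 ∨ g = swap 0 1 * swap 2 3 ∨ g = swap 0 2 * swap 1 3 ∨ g = swap 0 3 * swap 1 2}
      one_mem' := Or.inl rfl
      mul_mem' := by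
        intro x y hx hy
        rcases hx with rfl | rfl | rfl | rfl <;> rcases hy with rfl | rfl | rfl | rfl <;> decide
      inv_mem' := by
        intro x hx
        rcases hx with rfl | rfl | rfl | rfl <;> decide }
  have hK2 : IsPGroup 2 K := fun x => ⟨1, Subtype.ext <| by
    rcases x.2 with h | h | h | h <;> simp only [pow_one, SubmonoidClass.coe_pow, h, OneMemClass.coe_one] <;> decide⟩
  obtain ⟨g, hg⟩ := conj_into h Nat.prime_two h2 (P := K.map (viaEmbeddingHom ι)) (hK2.map _) (by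
    rintro _ ⟨x, hx, rfl⟩
    refine hG ?_
    rw [mem_alternatingGroup, viaEmbeddingHom_apply, Equiv.Perm.viaEmbedding, Equiv.Perm.sign_extendDomain]
    rcases hx with rfl | rfl | rfl | rfl <;> decide)
  refine ⟨(Finset.univ.map ι).map g.toEmbedding, by simp, ?_⟩
  intro a b c d ha hb hc hd hab hac had hbc hbd hcd
  simp only [Finset.mem_map, Finset.mem_univ, true_and, Equiv.coe_toEmbedding] at ha hb hc hd
  obtain ⟨_, ⟨i, rfl⟩, rfl⟩ := ha
  obtain ⟨_, ⟨j, rfl⟩, rfl⟩ := hb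
  obtain ⟨_, ⟨k, rfl⟩, rfl⟩ := hc
  obtain ⟨_, ⟨l, rfl⟩, rfl⟩ := hd
  have hm := hg _ (Subgroup.mem_map.2 ⟨swap i j * swap k l,
    Or.inr (klein_cases i j k l ⟨fun e => hab (by rw [e]), fun e => hac (by rw [e]), fun e => had (by rw [e]),
      fun e => hbc (by rw [e]), fun e => hbd (by rw [e]), fun e => hcd (by rw [e])⟩), rfl⟩)
  rw [map_mul, viaEmbeddingHom_apply, viaEmbeddingHom_apply, via, via] at hm
  rw [Equiv.swap_apply_apply g, Equiv.swap_apply_apply g]
  simpa [mul_assoc] using hm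

omit [Fintype α] in
/-- Two double transpositions meeting in three points. -/
theorem quad_three {p q r s t : α} (hpr : p ≠ r) (hps : p ≠ s) (hqr : q ≠ r) (hqs : q ≠ s) :
    swap p q * swap r s * (swap p q * swap r t) = swap r s * swap r t := by
  have hc : Commute (swap p q) (swap r s) := by
    refine Equiv.Perm.Disjoint.commute fun x => ?_
    by_cases hx : x = p ∨ x = q
    · exact Or.inr (swap_apply_of_ne_of_ne (by rintro rfl; tauto) (by rintro rfl; tauto))
    · exact Or.inl (swap_apply_of_ne_of_ne (by tauto) (by tauto))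
  calc swap p q * swap r s * (swap p q * swap r t) = swap p q * (swap r s * swap p q) * swap r t := by group
    _ = swap p q * (swap p q * swap r s) * swap r t := by rw [hc.eq]
    _ = _ := by simp [mul_assoc]

theorem disjoint_swaps {a b c d : α} (hac : a ≠ c) (had : a ≠ d) (hbc : b ≠ c) (hbd : b ≠ d) :
    (swap a b).Disjoint (swap c d) := by
  intro x
  by_cases hx : x = a ∨ x = b
  · exact Or.inr (swap_apply_of_ne_of_ne (by rintro rfl; tauto) (by rintro rfl; tauto))
  · exact Or.inl (swap_apply_of_ne_of_ne (by tauto) (by tauto))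

/-- A subgroup containing double transpositions on two four-sets that meet in one, two or three
points has an element of order three. -/
theorem three_dvd {M : Subgroup (Perm α)} {Γ Δ : Finset α} (hΓ : Γ.card = 4) (hΔ : Δ.card = 4)
    (hM : ∀ a b c d : α, a ∈ Γ → b ∈ Γ → c ∈ Γ → d ∈ Γ →
      a ≠ b → a ≠ c → a ≠ d → b ≠ c → b ≠ d → c ≠ d → swap a b * swap c d ∈ M)
    (hM' : ∀ a b c d : α, a ∈ Δ → b ∈ Δ → c ∈ Δ → d ∈ Δ →
      a ≠ b → a ≠ c → a ≠ d → b ≠ c → b ≠ d → c ≠ d → swap a b * swap c d ∈ M)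
    (h1 : (Γ ∩ Δ).card ≠ 0) (h4 : (Γ ∩ Δ).card ≠ 4) : 3 ∣ Nat.card M := by
  classical
  haveI : Fact (Nat.Prime 3) := ⟨Nat.prime_three⟩
  have key : ∀ x ∈ M, x ^ 3 = 1 → x ≠ 1 → 3 ∣ Nat.card M := fun x hx h3 hne => by
    rw [← orderOf_eq_prime h3 hne]
    exact Subgroup.orderOf_dvd_natCard _ hx
  have hcards : (Γ ∩ Δ).card + (Γ \ Δ).card = 4 ∧ (Γ ∩ Δ).card + (Δ \ Γ).card = 4 := by
    refine ⟨?_, ?_⟩
    · rw [add_comm, Finset.card_sdiff_add_card_inter, hΓ]
    · rw [add_comm, Finset.inter_comm, Finset.card_sdiff_add_card_inter, hΔ]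
  have hlt : (Γ ∩ Δ).card ≤ 4 := by omega
  obtain hI | hI | hI : (Γ ∩ Δ).card = 1 ∨ (Γ ∩ Δ).card = 2 ∨ (Γ ∩ Δ).card = 3 := by omega
  · obtain ⟨p, hp⟩ := Finset.card_eq_one.1 hI
    obtain ⟨q, r, s, hqr, hqs, hrs, hL⟩ := Finset.card_eq_three.1 (show (Γ \ Δ).card = 3 by omega)
    obtain ⟨t, u, v, htu, htv, huv, hR⟩ := Finset.card_eq_three.1 (show (Δ \ Γ).card = 3 by omega)
    simp only [Finset.ext_iff, Finset.mem_inter, Finset.mem_sdiff, Finset.mem_singleton, Finset.mem_insert] at hp hL hR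
    have hp' := (hp p).2 rfl
    have hq := (hL q).2 (by simp)
    have hr := (hL r).2 (by simp)
    have hs := (hL s).2 (by simp)
    have ht := (hR t).2 (by simp)
    have hu := (hR u).2 (by simp)
    have hv := (hR v).2 (by simp)
    have ne1 : ∀ {x y : α}, x ∈ Δ → y ∉ Δ → x ≠ y := fun hx hy e => hy (e ▸ hx)
    have ne2 : ∀ {x y : α}, x ∈ Γ → y ∉ Γ → x ≠ y := fun hx hy e => hy (e ▸ hx)
    have m1 := hM p q r s hp'.1 hq.1 hr.1 hs.1 (ne1 hp'.2 hq.2) (ne1 hp'.2 hr.2) (ne1 hp'.2 hs.2) hqr hqs hrs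
    have m2 := hM' p t u v hp'.2 ht.1 hu.1 hv.1 (ne2 hp'.1 ht.2) (ne2 hp'.1 hu.2) (ne2 hp'.1 hv.2) htu htv huv
    set a := swap p q
    set b := swap r s
    set c := swap p t
    set d := swap u v
    have hbc : Commute b c := (disjoint_swaps (ne1 hp'.2 hr.2).symm (ne2 hr.1 ht.2) (ne1 hp'.2 hs.2).symm (ne2 hs.1 ht.2)).commute
    have hba : Commute b a := (disjoint_swaps (ne1 hp'.2 hr.2).symm hqr.symm (ne1 hp'.2 hs.2).symm hqs.symm).commute
    have hda : Commute d a := (disjoint_swaps (ne2 hp'.1 hu.2).symm (ne1 hu.1 hq.2) (ne2 hp'.1 hv.2).symm (ne1 hv.1 hq.2)).commute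
    have hdc : Commute d c := (disjoint_swaps (ne2 hp'.1 hu.2).symm htu.symm (ne2 hp'.1 hv.2).symm htv.symm).commute
    have hdb : Commute d b := (disjoint_swaps (ne1 hu.1 hr.2) (ne1 hu.1 hs.2) (ne1 hv.1 hr.2) (ne1 hv.1 hs.2)).commute
    have hx : (a * b * (c * d)) ^ 2 = (a * c) ^ 2 := by
      have e : a * b * (c * d) = (a * c) * (b * d) := by
        rw [mul_assoc, ← mul_assoc b c d, hbc.eq]; group
      rw [e, (Commute.mul_left (hba.symm.mul_right hda.symm) (hbc.symm.mul_right hdc.symm)).mul_pow,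
        hdb.symm.mul_pow]
      simp [pow_two, b, d]
    have h3c := isThreeCycle_swap_mul_swap_same (ne1 hp'.2 hq.2) (ne2 hp'.1 ht.2) (ne2 hq.1 ht.2)
    refine key _ (pow_mem (mul_mem m1 m2) 2) ?_ ?_
    · rw [hx, ← pow_mul, mul_comm, pow_mul, ← h3c.orderOf, pow_orderOf_eq_one, one_pow]
    · rw [hx]
      intro h
      have := orderOf_dvd_of_pow_eq_one h
      rw [h3c.orderOf] at this
      norm_num at this
  · obtain ⟨p, q, hpq, hI'⟩ := Finset.card_eq_two.1 hI
    obtain ⟨r, s, hrs, hL⟩ := Finset.card_eq_two.1 (show (Γ \ Δ).card = 2 by omega)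
    obtain ⟨t, u, htu, hR⟩ := Finset.card_eq_two.1 (show (Δ \ Γ).card = 2 by omega)
    simp only [Finset.ext_iff, Finset.mem_inter, Finset.mem_sdiff, Finset.mem_singleton, Finset.mem_insert] at hI' hL hR
    have hp := (hI' p).2 (by simp)
    have hq := (hI' q).2 (by simp)
    have hr := (hL r).2 (by simp)
    have hs := (hL s).2 (by simp)
    have ht := (hR t).2 (by simp)
    have hu := (hR u).2 (by simp)
    have ne1 : ∀ {x y : α}, x ∈ Δ → y ∉ Δ → x ≠ y := fun hx hy e => hy (e ▸ hx)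
    have ne2 : ∀ {x y : α}, x ∈ Γ → y ∉ Γ → x ≠ y := fun hx hy e => hy (e ▸ hx)
    have m1 := hM p r q s hp.1 hr.1 hq.1 hs.1 (ne1 hp.2 hr.2) hpq (ne1 hp.2 hs.2) (ne1 hq.2 hr.2).symm hrs (ne1 hq.2 hs.2)
    have m2 := hM' p t q u hp.2 ht.1 hq.2 hu.1 (ne2 hp.1 ht.2) hpq (ne2 hp.1 hu.2) (ne2 hq.1 ht.2).symm htu (ne2 hq.1 hu.2)
    set a := swap p r
    set b := swap q s
    set c := swap p t
    set d := swap q u
    have hbc : Commute b c := (disjoint_swaps hpq.symm (ne2 hq.1 ht.2) (ne1 hp.2 hs.2).symm (ne2 hs.1 ht.2)).commute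
    have hba : Commute b a := (disjoint_swaps hpq.symm (ne1 hq.2 hr.2) (ne1 hp.2 hs.2).symm hrs.symm).commute
    have hda : Commute d a := (disjoint_swaps hpq.symm (ne1 hq.2 hr.2) (ne2 hp.1 hu.2).symm (ne1 hu.1 hr.2)).commute
    have hdc : Commute d c := (disjoint_swaps hpq.symm (ne2 hq.1 ht.2) (ne2 hp.1 hu.2).symm htu.symm).commute
    have e : a * b * (c * d) = (a * c) * (b * d) := by
      rw [mul_assoc, ← mul_assoc b c d, hbc.eq]; group
    have h3a := isThreeCycle_swap_mul_swap_same (ne1 hp.2 hr.2) (ne2 hp.1 ht.2) (ne2 hr.1 ht.2)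
    have h3b := isThreeCycle_swap_mul_swap_same (ne1 hq.2 hs.2) (ne2 hq.1 hu.2) (ne2 hs.1 hu.2)
    refine key _ (mul_mem m1 m2) ?_ ?_
    · rw [e, (Commute.mul_left (hba.symm.mul_right hda.symm) (hbc.symm.mul_right hdc.symm)).mul_pow]
      nth_rw 1 [← h3a.orderOf]
      rw [pow_orderOf_eq_one, ← h3b.orderOf, pow_orderOf_eq_one, one_mul]
    · intro h
      have hd1 : d t = t := swap_apply_of_ne_of_ne (ne2 hq.1 ht.2).symm htu
      have hb1 : b p = p := swap_apply_of_ne_of_ne hpq (ne1 hp.2 hs.2)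
      have h' := congrArg (fun f : Perm α => f t) h
      simp only [Perm.mul_apply, hd1, Perm.one_apply] at h'
      rw [show c t = p from swap_apply_right p t, hb1, show a p = r from swap_apply_left p r] at h'
      exact ne2 hr.1 ht.2 h'
  · obtain ⟨p, q, r, hpq, hpr, hqr, hI'⟩ := Finset.card_eq_three.1 hI
    obtain ⟨s, hL⟩ := Finset.card_eq_one.1 (show (Γ \ Δ).card = 1 by omega)
    obtain ⟨t, hR⟩ := Finset.card_eq_one.1 (show (Δ \ Γ).card = 1 by omega)
    simp only [Finset.ext_iff, Finset.mem_inter, Finset.mem_sdiff, Finset.mem_singleton, Finset.mem_insert] at hI' hL hR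
    have hp := (hI' p).2 (by simp)
    have hq := (hI' q).2 (by simp)
    have hr := (hI' r).2 (by simp)
    have hs := (hL s).2 rfl
    have ht := (hR t).2 rfl
    have ne1 : ∀ {x y : α}, x ∈ Δ → y ∉ Δ → x ≠ y := fun hx hy e => hy (e ▸ hx)
    have ne2 : ∀ {x y : α}, x ∈ Γ → y ∉ Γ → x ≠ y := fun hx hy e => hy (e ▸ hx)
    have m1 := hM p q r s hp.1 hq.1 hr.1 hs.1 hpq hpr (ne1 hp.2 hs.2) hqr (ne1 hq.2 hs.2) (ne1 hr.2 hs.2)
    have m2 := hM' p q r t hp.2 hq.2 hr.2 ht.1 hpq hpr (ne2 hp.1 ht.2) hqr (ne2 hq.1 ht.2) (ne2 hr.1 ht.2)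
    have e := quad_three (t := t) hpr (ne1 hp.2 hs.2) hqr (ne1 hq.2 hs.2)
    have h3 := isThreeCycle_swap_mul_swap_same (ne1 hr.2 hs.2) (ne2 hr.1 ht.2) (ne2 hs.1 ht.2)
    have hmem := mul_mem m1 m2
    rw [e] at hmem
    refine key _ hmem ?_ h3.ne_one
    rw [← h3.orderOf, pow_orderOf_eq_one]

end CfsgLib.SymHall
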