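import Cfsg.Agent.Lib.SymHall.Basic

/-!
# Hall subgroups of groups between the alternating and the symmetric group
-/

set_option autoImplicit false

open scoped Pointwise Nat
open Equiv Equiv.Perm MulAction

namespace CfsgLib.SymHall

variable {α : Type} [Fintype α] [DecidableEq α] {π : Set ℕ}

/-- The permutations that fix the pair consisting of a set and its complement. -/
def pairStab (S : Finset α) : Subgroup (Perm α) where
  carrier := {g | (∀ x, g x ∈ S ↔ x ∈ S) ∨ (∀ x, g x ∈ S ↔ x ∉ S)}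
  one_mem' := Or.inl fun _ => Iff.rfl
  mul_mem' := by
    intro g h hg hh
    rcases hg with hg | hg <;> rcases hh with hh | hh
    · exact Or.inl fun x => (hg _).trans (hh x)
    · exact Or.inr fun x => (hg _).trans (hh x)
    · exact Or.inr fun x => (hg _).trans (not_congr (hh x))
    · exact Or.inl fun x => (hg _).trans ((not_congr (hh x)).trans not_not)
  inv_mem' := by
    intro g hg
    rcases hg with hg | hg
    · refine Or.inl fun x => ?_
      have := hg (g⁻¹ x)
      rw [show g (g⁻¹ x) = x from g.apply_symm_apply x] at this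
      exact this.symm
    · refine Or.inr fun x => ?_
      have := hg (g⁻¹ x)
      rw [show g (g⁻¹ x) = x from g.apply_symm_apply x] at this
      tauto

/-- The exceptional cases. -/
def Case (π : Set ℕ) (n b : ℕ) : Prop :=
  (n.Prime ∧ b = 1 ∧ ∀ r : ℕ, r.Prime → r ≤ n → (r ∈ π ↔ r < n)) ∨
    (((n = 7 ∧ b = 3) ∨ (n = 8 ∧ b = 4)) ∧ ∀ r : ℕ, r.Prime → r ≤ n → (r ∈ π ↔ r = 2 ∨ r = 3))

/-- Two primes in and one prime out. -/
def Mixed (π : Set ℕ) (n : ℕ) : Prop :=
  (∃ r s : ℕ, r.Prime ∧ s.Prime ∧ r ≠ s ∧ r ∈ π ∧ s ∈ π ∧ r ≤ n ∧ s ≤ n) ∧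
    ∃ r : ℕ, r.Prime ∧ r ≤ n ∧ r ∉ π

/-- The claim for one degree. -/
def Claim (π : Set ℕ) (n : ℕ) : Prop :=
  ∀ (β : Type) [Fintype β] [DecidableEq β], Fintype.card β = n → ∀ M G : Subgroup (Perm β),
    alternatingGroup β ≤ G → HallIn π M G → ∃ S : Finset β, Case π n S.card ∧ M ≤ pairStab S

theorem le_four_cases {p : ℕ} (hp : p.Prime) (h : p ≤ 4) : p = 2 ∨ p = 3 := by
  have := hp.two_le
  rcases eq_or_ne p 4 with rfl | h4
  · norm_num at hp
  · omega

theorem Mixed.five_le {n : ℕ} (h : Mixed π n) : 5 ≤ n := by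
  obtain ⟨⟨r, s, hr, hs, hrs, hrπ, hsπ, hrn, hsn⟩, t, ht, htn, htπ⟩ := h
  have h1 : r ≠ t := fun e => htπ (e ▸ hrπ)
  have h2 : s ≠ t := fun e => htπ (e ▸ hsπ)
  by_contra hn
  have : ∀ p : ℕ, p.Prime → p ≤ 4 → p = 2 ∨ p = 3 := fun p hp hp4 => le_four_cases hp hp4
  rcases this r hr (by omega) with rfl | rfl <;> rcases this s hs (by omega) with rfl | rfl <;>
    rcases this t ht (by omega) with rfl | rfl <;> omega

/-- A prime does not divide a binomial coefficient just above it. -/
theorem prime_not_dvd_choose {a b : ℕ} (ha : a.Prime) (hb : b < a) : ¬ a ∣ (a + b).choose b := by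
  intro h
  have h1 : a ∣ (a + b).descFactorial b :=
    Nat.descFactorial_eq_factorial_mul_choose (a + b) b ▸ h.mul_left _
  rw [Nat.descFactorial_eq_prod_range] at h1
  obtain ⟨i, hi, hd⟩ := ha.prime.exists_mem_finset_dvd h1
  rw [Finset.mem_range] at hi
  have h2 := Nat.dvd_sub hd (dvd_refl a)
  rw [show a + b - i - a = b - i by omega] at h2
  have := Nat.le_of_dvd (by omega) h2
  omega

/-- The numerical conclusion for a split into `a` and `b ≥ 2` points. -/
theorem split_cases {a b : ℕ} (ha : 3 ≤ a) (hb : 2 ≤ b) (hba : b ≤ a)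
    (hC : ∀ p : ℕ, p.Prime → p ∈ π → ¬ p ∣ (a + b).choose b)
    (hA : (∀ p : ℕ, p.Prime → p ≤ a → p ∈ π) ∨ ∃ s, Case π a s) : a = 4 ∧ b = 3 := by
  rcases hA with hall | ⟨s, hcase⟩
  · exact binom_primes (fun p hp hpa => hC p hp (hall p hp hpa)) hb hba
  rcases hcase with ⟨hap, -, hπ⟩ | ⟨h78, hπ⟩
  · rcases Nat.lt_or_eq_of_le hba with hlt | rfl
    · refine binom_primes (fun p hp hpa => ?_) hb hba
      rcases Nat.lt_or_eq_of_le hpa with h | rfl
      · exact hC p hp ((hπ p hp hpa).2 h)
      · exact prime_not_dvd_choose hap hlt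
    · exfalso
      have h2 : 2 ∈ π := (hπ 2 Nat.prime_two (by omega)).2 (by omega)
      refine hC 2 Nat.prime_two h2 ?_
      rw [show b + b = 2 * b by omega]
      exact Nat.two_dvd_centralBinom_of_one_le (by omega)
  · exfalso
    have h2 : 2 ∈ π := (hπ 2 Nat.prime_two (by omega)).2 (Or.inl rfl)
    have h3 : 3 ∈ π := (hπ 3 Nat.prime_three (by omega)).2 (Or.inr rfl)
    have e2 := hC 2 Nat.prime_two h2
    have e3 := hC 3 Nat.prime_three h3
    rcases h78 with ⟨rfl, -⟩ | ⟨rfl, -⟩ <;> interval_cases b <;> simp_all +decide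

/-- The restriction to an invariant set contains its alternating group. -/
theorem project {T : Finset α} {K M : Subgroup (Perm α)} (hK : ∀ g ∈ K, ∀ x, g x ∈ T ↔ x ∈ T)
    (hAK : ∀ g : Perm α, g ∈ alternatingGroup α → (∀ x, x ∉ T → g x = x) → g ∈ K)
    (h : HallIn π M K) :
    ∃ M' G' : Subgroup (Perm {x // x ∈ T}), alternatingGroup {x // x ∈ T} ≤ G' ∧ HallIn π M' G' := by
  let f : ↥K →* Perm {x // x ∈ T} :=
    { toFun := fun g => Equiv.Perm.subtypePerm (g : Perm α) fun x => hK g g.2 x
      map_one' := by ext; simp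
      map_mul' := fun g h => by ext; rfl }
  refine ⟨_, f.range, fun σ hσ => ?_, h.map f⟩
  have hmem : Equiv.Perm.ofSubtype σ ∈ K := by
    refine hAK _ ?_ fun x hx => Equiv.Perm.ofSubtype_apply_of_not_mem σ hx
    rw [mem_alternatingGroup, Equiv.Perm.sign_ofSubtype, mem_alternatingGroup.1 hσ]
  refine ⟨⟨_, hmem⟩, ?_⟩
  ext x
  simp [f, Equiv.Perm.ofSubtype_apply_coe]

/-- The alternative from the induction hypothesis. -/
theorem sub_cases {n : ℕ} (IH : ∀ m, m < n → Mixed π m → Claim π m) {T : Finset α} (hT : T.card < n)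
    {K M : Subgroup (Perm α)} (hK : ∀ g ∈ K, ∀ x, g x ∈ T ↔ x ∈ T)
    (hAK : ∀ g : Perm α, g ∈ alternatingGroup α → (∀ x, x ∉ T → g x = x) → g ∈ K) (h : HallIn π M K)
    (h2 : ∃ r s : ℕ, r.Prime ∧ s.Prime ∧ r ≠ s ∧ r ∈ π ∧ s ∈ π ∧ r ≤ T.card ∧ s ≤ T.card) :
    (∀ p : ℕ, p.Prime → p ≤ T.card → p ∈ π) ∨ ∃ s, Case π T.card s := by
  by_cases hall : ∀ p : ℕ, p.Prime → p ≤ T.card → p ∈ π
  · exact Or.inl hall
  push Not at hall
  obtain ⟨M', G', hG', hH⟩ := project hK hAK h
  obtain ⟨S, hS, -⟩ := IH T.card hT ⟨h2, hall⟩ {x // x ∈ T} (Fintype.card_coe T) M' G' hG' hH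
  exact Or.inr ⟨_, hS⟩

omit [Fintype α] in
theorem smul_finset_iff (g : Perm α) (S : Finset α) : g • S = S ↔ ∀ x, g x ∈ S ↔ x ∈ S := by
  constructor
  · intro h x
    conv_lhs => rw [← h]
    exact Finset.smul_mem_smul_finset_iff g
  · intro h
    ext y
    rw [← Finset.inv_smul_mem_iff]
    have := h (g⁻¹ y)
    rw [show g (g⁻¹ y) = y from g.apply_symm_apply y] at this
    exact this.symm

/-- The number of translates of a set. -/
theorem index_stabilizer_finset (S : Finset α) :
    (stabilizer (Perm α) S).index = (Fintype.card α).choose S.card := by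
  rw [MulAction.index_stabilizer]
  have : orbit (Perm α) S = (Finset.univ.powersetCard S.card : Finset (Finset α)) := by
    ext U
    simp only [Finset.mem_coe, Finset.mem_powersetCard, Finset.subset_univ, true_and, mem_orbit_iff]
    constructor
    · rintro ⟨g, rfl⟩; exact Finset.card_smul_finset g S
    · intro hU
      obtain ⟨g, hg⟩ : ∃ g : Perm α, ∀ x : S, g x = (Finset.equivOfCardEq hU.symm x : α) :=
        ⟨(Finset.equivOfCardEq hU.symm).extendSubtype, fun x => Equiv.extendSubtype_apply_of_mem _ _ x.2⟩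
      refine ⟨g, Finset.eq_of_subset_of_card_le (fun y hy => ?_) (by rw [Finset.card_smul_finset, hU])⟩
      obtain ⟨x, hx, rfl⟩ := Finset.mem_smul_finset.1 hy
      rw [Perm.smul_def, hg ⟨x, hx⟩]
      exact Finset.coe_mem _
  rw [this, Set.ncard_coe_finset, Finset.card_powersetCard, Finset.card_univ]

/-- The intransitive case. -/
theorem intransitive (IH : ∀ m, m < Fintype.card α → Mixed π m → Claim π m) (hmix : Mixed π (Fintype.card α))
    {M G : Subgroup (Perm α)} (hG : alternatingGroup α ≤ G) (h : HallIn π M G) {S : Finset α}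
    (hS0 : 1 ≤ S.card) (hS : 2 * S.card ≤ Fintype.card α) (hMS : ∀ g ∈ M, g • S = S) :
    ∃ S : Finset α, Case π (Fintype.card α) S.card ∧ M ≤ pairStab S := by
  classical
  have h5 := hmix.five_le
  set n := Fintype.card α with hn
  have hTc : Sᶜ.card = n - S.card := Finset.card_compl S
  obtain ⟨t, t', ht, ht', htt⟩ : ∃ t t', t ∈ Sᶜ ∧ t' ∈ Sᶜ ∧ t ≠ t' :=
    (Finset.one_lt_card_iff.1 (show 1 < Sᶜ.card by omega))
  set Y := stabilizer (Perm α) S with hY
  have hswap : swap t t' ∈ Y := by
    rw [hY, MulAction.mem_stabilizer_iff, smul_finset_iff]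
    intro x
    rcases eq_or_ne x t with rfl | h1
    · simp [Finset.mem_compl.1 ht, Finset.mem_compl.1 ht']
    rcases eq_or_ne x t' with rfl | h2
    · simp [Finset.mem_compl.1 ht, Finset.mem_compl.1 ht']
    rw [swap_apply_of_ne_of_ne h1 h2]
  have hidx : (Y ⊓ G).relIndex G = n.choose S.card := by
    rw [relIndex_inf_eq_index hG (by omega) hswap (sign_swap htt), hY, index_stabilizer_finset]
  obtain ⟨hK, hCπ⟩ := h.mid (K := Y ⊓ G) (le_inf (fun g hg => hMS g hg) h.1) inf_le_right
  rw [hidx] at hCπ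
  have hinv : ∀ g ∈ Y ⊓ G, ∀ x, g x ∈ Sᶜ ↔ x ∈ Sᶜ := fun g hg x => by
    simp only [Finset.mem_compl]
    exact not_congr ((smul_finset_iff g S).1 hg.1 x)
  have hAK : ∀ g : Perm α, g ∈ alternatingGroup α → (∀ x, x ∉ Sᶜ → g x = x) → g ∈ Y ⊓ G := by
    intro g hg hfix
    refine ⟨(smul_finset_iff g S).2 fun x => ?_, hG hg⟩
    by_cases hx : x ∈ S
    · rw [hfix x (by simpa using hx)]
    · refine iff_of_false (fun hgx => hx ?_) hx
      have := hfix (g x) (by simpa using hgx)
      rwa [g.injective this] at hgx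
  have hπle : ∀ p : ℕ, p.Prime → p ∈ π → p ≤ n → p ≤ Sᶜ.card ∨ (S.card = 1 ∧ p = n) := by
    intro p hp hpπ hpn
    have h1 : p ∣ n.choose S.card * S.card ! * (n - S.card)! :=
      (Nat.choose_mul_factorial_mul_factorial (by omega : S.card ≤ n)).symm ▸ hp.dvd_factorial.2 hpn
    rcases hp.dvd_mul.1 h1 with h2 | h2
    · rcases hp.dvd_mul.1 h2 with h3 | h3
      · exact absurd h3 (hCπ p hp hpπ)
      · left; have := hp.dvd_factorial.1 h3; omega
    · left; have := hp.dvd_factorial.1 h2; omega
  obtain ⟨⟨r, s, hr, hs, hrs, hrπ, hsπ, hrn, hsn⟩, u, hu, hun, huπ⟩ := hmix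
  refine ⟨S, ?_, fun g hg => Or.inl ((smul_finset_iff g S).1 (hMS g hg))⟩
  rcases Nat.lt_or_eq_of_le hS0 with hb | hb
  · -- at least two points
    have hle : ∀ p : ℕ, p.Prime → p ∈ π → p ≤ n → p ≤ Sᶜ.card := fun p hp hpπ hpn =>
      (hπle p hp hpπ hpn).resolve_right fun h => by omega
    have hA := sub_cases IH (by omega) hinv hAK hK
      ⟨r, s, hr, hs, hrs, hrπ, hsπ, hle r hr hrπ hrn, hle s hs hsπ hsn⟩
    obtain ⟨ha4, hb3⟩ := split_cases (a := Sᶜ.card) (b := S.card) (π := π) (by have := hle r hr hrπ hrn; have := hle s hs hsπ hsn; have := hr.two_le; have := hs.two_le; omega) hb (by omega)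
      (by rw [show Sᶜ.card + S.card = n by omega]; exact hCπ) hA
    refine Or.inr ⟨Or.inl ⟨by omega, hb3⟩, fun p hp hpn => ⟨fun hpπ => ?_, fun h23 => ?_⟩⟩
    · exact le_four_cases hp (ha4 ▸ hle p hp hpπ hpn)
    · rcases hA with hall | ⟨c, hc⟩
      · exact hall p hp (by omega)
      · exfalso
        rw [ha4] at hc
        rcases hc with ⟨h4, -⟩ | ⟨h78, -⟩
        · norm_num at h4
        · omega
  · -- one point
    have hle : ∀ p : ℕ, p.Prime → p ∈ π → p ≤ n → ¬ p ∣ n := fun p hp hpπ hpn => by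
      have := hCπ p hp hpπ
      rwa [← hb, Nat.choose_one_right] at this
    have hlt : ∀ p : ℕ, p.Prime → p ∈ π → p ≤ n → p ≤ Sᶜ.card := fun p hp hpπ hpn =>
      (hπle p hp hpπ hpn).resolve_right fun h => hle p hp hpπ hpn (h.2 ▸ dvd_rfl)
    rcases sub_cases IH (by omega) hinv hAK hK
      ⟨r, s, hr, hs, hrs, hrπ, hsπ, hlt r hr hrπ hrn, hlt s hs hsπ hsn⟩ with hall | ⟨c, hc⟩
    · have hun' : u = n := by
        by_contra hne
        exact huπ (hall u hu (by omega))
      subst hun'
      refine Or.inl ⟨hu, hb.symm, fun p hp hpn => ⟨fun hpπ => lt_of_le_of_ne hpn fun e => huπ (e ▸ hpπ), fun h => ?_⟩⟩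
      exact hall p hp (by omega)
    · exfalso
      rcases hc with ⟨hap, -, hπ'⟩ | ⟨h78, hπ'⟩
      · have hne : Sᶜ.card ≠ 2 := by omega
        have hodd := hap.eq_two_or_odd.resolve_left hne
        exact hle 2 Nat.prime_two ((hπ' 2 Nat.prime_two (by omega)).2 (by omega)) (by omega) (by omega)
      · rcases h78 with ⟨h7, -⟩ | ⟨h8, -⟩
        · exact hle 2 Nat.prime_two ((hπ' 2 Nat.prime_two (by omega)).2 (Or.inl rfl)) (by omega) (by omega)
        · exact hle 3 Nat.prime_three ((hπ' 3 Nat.prime_three (by omega)).2 (Or.inr rfl)) (by omega) (by omega)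

/-- The order of the group of a uniform partition, and the product formula. -/
theorem factorial_mul_eq (m : ℕ) : ∀ k : ℕ,
    (k * (m + 1))! = (m + 1)! ^ k * k ! * ∏ i ∈ Finset.range k, ((i + 1) * (m + 1) - 1).choose m
  | 0 => by simp
  | k + 1 => by
    rw [Finset.prod_range_succ, Nat.factorial_succ k, pow_succ]
    have h1 := Nat.add_choose_mul_factorial_mul_factorial m (k * (m + 1))
    have e : (k + 1) * (m + 1) = (m + k * (m + 1)) + 1 := by ring
    have h2 : ((k + 1) * (m + 1))! = (k + 1) * (m + 1) * (m + k * (m + 1))! := by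
      rw [e, Nat.factorial_succ]
    rw [h2, ← h1, factorial_mul_eq m k, show (k + 1) * (m + 1) - 1 = m + k * (m + 1) by omega,
      Nat.choose_symm_of_eq_add (rfl : m + k * (m + 1) = m + k * (m + 1)), Nat.factorial_succ m]
    ring

/-- The transitive imprimitive case. -/
theorem imprimitive (IH : ∀ m, m < Fintype.card α → Mixed π m → Claim π m) (hmix : Mixed π (Fintype.card α))
    {M G : Subgroup (Perm α)} (hG : alternatingGroup α ≤ G) (h : HallIn π M G)
    [IsPretransitive M α] {B : Set α} (hB : IsBlock M B) (hB1 : 1 < B.ncard) (hBn : B.ncard < Fintype.card α) :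
    ∃ S : Finset α, Case π (Fintype.card α) S.card ∧ M ≤ pairStab S := by
  classical
  have h5 := hmix.five_le
  set n := Fintype.card α with hn
  have hBne : B.Nonempty := Set.nonempty_of_ncard_ne_zero (by omega)
  obtain ⟨hpart, -⟩ := hB.isBlockSystem hBne
  set 𝔅 : Set (Set α) := Set.range fun g : M => g • B with h𝔅
  -- the map to the blocks
  choose f hf hfu using fun x => hpart.2 x
  have hfu' : ∀ x : α, ∀ X ∈ 𝔅, x ∈ X → X = f x := fun x X hX hx => hfu x X ⟨hX, hx⟩
  let F : α → {X : Set α // X ∈ 𝔅} := fun x => ⟨f x, (hf x).1⟩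
  have hfib : ∀ X : {X : Set α // X ∈ 𝔅}, Fintype.card {x // F x = X} = B.ncard := by
    intro X
    obtain ⟨g, hg⟩ := X.2
    rw [← Nat.card_eq_fintype_card, ← Set.ncard_smul_set g B, show g • B = X.1 from hg,
      ← Nat.card_coe_set_eq]
    refine Nat.card_congr (Equiv.subtypeEquivRight fun x => ?_)
    constructor
    · intro he; rw [← he]; exact (hf x).2
    · intro hx; exact Subtype.ext (hfu' x X.1 X.2 hx).symm
  set m := B.ncard with hm
  set k := Fintype.card {X : Set α // X ∈ 𝔅} with hk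
  have hnmk : n = k * m := by
    rw [hn, ← Fintype.card_congr (Equiv.sigmaFiberEquiv F), Fintype.card_sigma, Finset.sum_congr rfl fun X _ => hfib X]
    simp [hk]
  have hk2 : 2 ≤ k := by
    by_contra hlt
    have : k * m ≤ 1 * m := Nat.mul_le_mul_right m (by omega)
    omega
  -- the group of the partition
  let W : Subgroup (Perm α) :=
    { carrier := {g | ∀ x y, F x = F y ↔ F (g x) = F (g y)}
      one_mem' := fun _ _ => Iff.rfl
      mul_mem' := fun {g h} hg hh x y => (hh x y).trans (hg _ _)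
      inv_mem' := fun {g} hg x y => by
        have := hg (g⁻¹ x) (g⁻¹ y)
        rw [show g (g⁻¹ x) = x from g.apply_symm_apply x, show g (g⁻¹ y) = y from g.apply_symm_apply y] at this
        exact this.symm }
  have hsec : ∀ X : {X : Set α // X ∈ 𝔅}, ∃ x, F x = X := fun X => by
    have : 0 < Fintype.card {x // F x = X} := by rw [hfib]; omega
    obtain ⟨⟨x, hx⟩⟩ := Fintype.card_pos_iff.1 this
    exact ⟨x, hx⟩
  choose sec hsec using hsec
  let ψ : ↥W →* Function.End {X : Set α // X ∈ 𝔅} :=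
    { toFun := fun g X => F ((g : Perm α) (sec X))
      map_one' := funext fun X => hsec X
      map_mul' := fun g h => funext fun X => by
        show F ((g : Perm α) ((h : Perm α) (sec X))) = F ((g : Perm α) (sec (F ((h : Perm α) (sec X)))))
        exact (g.2 _ _).1 (hsec _).symm }
  let Ψ : ↥W →* Perm {X : Set α // X ∈ 𝔅} := Equiv.Perm.equivUnitsEnd.symm.toMonoidHom.comp ψ.toHomUnits
  have hΨ : ∀ (g : W) X, Ψ g X = F ((g : Perm α) (sec X)) := fun g X => rfl
  have hΨ' : ∀ (g : W) (x : α), Ψ g (F x) = F ((g : Perm α) x) := fun g x => by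
    rw [hΨ]; exact (g.2 _ _).1 (hsec _)
  have hMW : M ≤ W := by
    intro g hg x y
    have hmap : ∀ z, F (g z) = F (g z) ∧ (⟨g, hg⟩ : M) • f z = f (g z) := fun z => ⟨rfl, by
      obtain ⟨h0, hh0⟩ := (hf z).1
      exact hfu' _ _ ⟨⟨g, hg⟩ * h0, by simp only; rw [mul_smul]; exact congrArg _ hh0⟩ (Set.smul_mem_smul_set (a := (⟨g, hg⟩ : M)) (hf z).2)⟩
    simp only [F, Subtype.mk.injEq]
    rw [← (hmap x).2, ← (hmap y).2, smul_left_cancel_iff]
  -- the index of the partition group
  obtain ⟨m', hm'⟩ : ∃ m', m = m' + 1 := ⟨m - 1, by omega⟩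
  have hker : Nat.card Ψ.ker = m ! ^ k := by
    have e : ↥Ψ.ker ≃ {g : Perm α // F ∘ g = F} :=
      { toFun := fun g => ⟨g.1.1, funext fun x => by
          have := hΨ' g.1 x
          rw [show Ψ g.1 = 1 from g.2] at this
          exact this.symm⟩
        invFun := fun g => ⟨⟨g.1, fun x y => by
            rw [show F (g.1 x) = F x from congrFun g.2 x, show F (g.1 y) = F y from congrFun g.2 y]⟩,
          Equiv.ext fun X => by
            rw [hΨ, show F (g.1 (sec X)) = F (sec X) from congrFun g.2 _, hsec]; rfl⟩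
        left_inv := fun g => rfl
        right_inv := fun g => rfl }
    rw [Nat.card_congr e, Nat.card_eq_fintype_card, DomMulAct.stabilizer_card,
      Finset.prod_congr rfl fun X _ => by rw [hfib X], Finset.prod_const, Finset.card_univ]
  obtain ⟨d, hd⟩ : Nat.card W ∣ m ! ^ k * k ! := by
    rw [← Ψ.ker.card_mul_index, hker, Subgroup.index_ker]
    refine Nat.mul_dvd_mul_left _ ?_
    rw [hk, ← Fintype.card_perm, ← Nat.card_eq_fintype_card]
    exact Subgroup.card_subgroup_dvd_card _
  have hP : ∀ i, i < k → ((i + 1) * m - 1).choose m' ∣ W.index := by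
    intro i hi
    have h1 := factorial_mul_eq m' k
    rw [← hm', ← hnmk, hn, ← Fintype.card_perm, ← Nat.card_eq_fintype_card, ← W.card_mul_index, hd, mul_assoc] at h1
    rw [Nat.eq_of_mul_eq_mul_left Nat.card_pos h1]
    exact (Finset.dvd_prod_of_mem _ (Finset.mem_range.2 hi)).mul_left _
  obtain ⟨t, ht, t', ht', htt⟩ := (Set.one_lt_ncard).1 (show 1 < B.ncard from hB1)
  have hBmem : B ∈ 𝔅 := ⟨1, one_smul _ _⟩
  have hswap : swap t t' ∈ W := by
    have hFB : F t = F t' := Subtype.ext ((hfu' t B hBmem ht).symm.trans (hfu' t' B hBmem ht'))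
    have hFs : ∀ x, F (swap t t' x) = F x := by
      intro x
      rcases eq_or_ne x t with rfl | h1
      · rw [swap_apply_left]; exact hFB.symm
      rcases eq_or_ne x t' with rfl | h2
      · rw [swap_apply_right]; exact hFB
      rw [swap_apply_of_ne_of_ne h1 h2]
    intro x y
    rw [hFs, hFs]
  obtain ⟨hK, hWπ⟩ := h.mid (K := W ⊓ G) (le_inf hMW h.1) inf_le_right
  rw [relIndex_inf_eq_index hG (by omega) hswap (sign_swap htt)] at hWπ
  -- all primes of `π` are at most `m`
  have hle : ∀ q : ℕ, q.Prime → q ∈ π → q ≤ n → q ≤ m := by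
    intro q hq hqπ hqn
    rcases eq_or_ne q 2 with rfl | hq2
    · omega
    obtain ⟨c, hcM, hcyc, hsupp, hord⟩ := exists_cycle h hG hq hq2 hqπ hqn
    let cW : W := ⟨c, hMW hcM⟩
    by_contra hgt
    by_cases h1 : Ψ cW = 1
    · have hfix : ∀ x, F (c x) = F x := fun x => by
        have := hΨ' cW x
        rw [h1] at this
        exact this.symm
      obtain ⟨x0, hx0⟩ := Finset.card_pos.1 (hsupp ▸ hq.pos : 0 < c.support.card)
      have hsub : c.support ⊆ Finset.univ.filter fun y => F y = F x0 := by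
        intro y hy
        obtain ⟨i, hi⟩ := (hcyc.sameCycle (Equiv.Perm.mem_support.1 hx0) (Equiv.Perm.mem_support.1 hy)).exists_nat_pow_eq
        refine Finset.mem_filter.2 ⟨Finset.mem_univ _, ?_⟩
        rw [← hi]
        clear hi
        induction i with
        | zero => simp
        | succ j ih => rw [pow_succ', Perm.mul_apply, hfix, ih]
      have := Finset.card_le_card hsub
      rw [hsupp, ← Fintype.card_subtype, hfib] at this
      omega
    · haveI : Fact q.Prime := ⟨hq⟩
      have hoq : orderOf (Ψ cW) = q := orderOf_eq_prime (by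
        rw [← map_pow, show cW ^ q = 1 from Subtype.ext (by simp only [SubmonoidClass.coe_pow, OneMemClass.coe_one, cW]; rw [← hord, pow_orderOf_eq_one]), map_one]) h1
      have hq' : q ≤ (Ψ cW).support.card := by
        obtain ⟨l, hl⟩ := Equiv.Perm.cycleType_prime_order (σ := Ψ cW) (hoq ▸ hq)
        have := Equiv.Perm.sum_cycleType (Ψ cW)
        rw [hl, Multiset.sum_replicate, hoq, smul_eq_mul] at this
        rw [← this]
        exact Nat.le_mul_of_pos_left q (by omega)
      have hsub : (Finset.univ.filter fun x => F x ∈ (Ψ cW).support) ⊆ c.support := by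
        intro x hx
        simp only [Finset.mem_filter, Finset.mem_univ, true_and, Equiv.Perm.mem_support, hΨ'] at hx ⊢
        intro hcx
        exact hx (by rw [show ((cW : Perm α) x) = x from hcx])
      have hcount : (Finset.univ.filter fun x => F x ∈ (Ψ cW).support).card = (Ψ cW).support.card * m := by
        rw [Finset.card_eq_sum_card_fiberwise (f := F) (t := (Ψ cW).support) (fun x hx => Finset.mem_coe.2 (Finset.mem_filter.1 (Finset.mem_coe.1 hx)).2),
          Finset.sum_congr rfl fun X hX => show _ = m from ?_, Finset.sum_const, smul_eq_mul]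
        rw [← hfib X, Fintype.card_subtype]
        congr 1
        ext x
        simp only [Finset.mem_filter, Finset.mem_univ, true_and]
        exact ⟨fun h => h.2, fun h => ⟨h ▸ hX, h⟩⟩
      have := Finset.card_le_card hsub
      rw [hcount, hsupp] at this
      have : q * 2 ≤ (Ψ cW).support.card * m := Nat.mul_le_mul hq' (by omega)
      have := hq.pos
      omega
  -- the kernel on one block
  let N : Subgroup (Perm α) :=
    { carrier := {g | g ∈ G ∧ ∀ x, F (g x) = F x}
      one_mem' := ⟨G.one_mem, fun _ => rfl⟩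
      mul_mem' := fun {g h} hg hh => ⟨G.mul_mem hg.1 hh.1, fun x => (hg.2 _).trans (hh.2 x)⟩
      inv_mem' := fun {g} hg => ⟨G.inv_mem hg.1, fun x => by
        have := hg.2 (g⁻¹ x)
        rw [show g (g⁻¹ x) = x from g.apply_symm_apply x] at this
        exact this.symm⟩ }
  have hNW : N ≤ W ⊓ G := fun g hg => ⟨fun x y => by rw [hg.2, hg.2], hg.1⟩
  have hNn : ∀ g ∈ W ⊓ G, ∀ x ∈ N, g * x * g⁻¹ ∈ N := fun g hg u hu =>
    ⟨G.mul_mem (G.mul_mem hg.2 hu.1) (G.inv_mem hg.2), fun x => by
      have := (hg.1 (u (g⁻¹ x)) (g⁻¹ x)).1 (hu.2 _)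
      rwa [show g (g⁻¹ x) = x from g.apply_symm_apply x] at this⟩
  have hHN := hK.kernel N hNW hNn
  set X0 : {X : Set α // X ∈ 𝔅} := ⟨B, hBmem⟩
  set T : Finset α := Finset.univ.filter fun x => F x = X0 with hT
  have hTc : T.card = m := by rw [hT, ← Fintype.card_subtype, hfib]
  obtain ⟨⟨r, s, hr, hs, hrs, hrπ, hsπ, hrn, hsn⟩, u, hu, hun, huπ⟩ := hmix
  have hA := sub_cases IH (T := T) (by omega) (K := N) (M := M ⊓ N)
    (fun g hg x => by simp [hT, hg.2 x])
    (fun g hg hfix => ⟨hG hg, fun x => by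
      by_cases hx : x ∈ T
      · have hgx : g x ∈ T := by
          by_contra hgx
          exact hgx (by rwa [g.injective (hfix _ hgx)])
        simp only [hT, Finset.mem_filter, Finset.mem_univ, true_and] at hx hgx
        rw [hx, hgx]
      · rw [hfix x hx]⟩) hHN
    ⟨r, s, hr, hs, hrs, hrπ, hsπ, hTc.symm ▸ hle r hr hrπ hrn, hTc.symm ▸ hle s hs hsπ hsn⟩
  rw [hTc] at hA
  have hm3 : 3 ≤ m := by
    have := hle r hr hrπ hrn; have := hle s hs hsπ hsn; have := hr.two_le; have := hs.two_le; omega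
  obtain ⟨hm4, -⟩ := split_cases (a := m) (b := m - 1) (π := π) hm3 (by omega) (by omega) (fun p hp hpπ hpd =>
    hWπ p hp hpπ (hpd.trans (by
      have := hP 1 (by omega)
      rwa [show m + (m - 1) = (1 + 1) * m - 1 by omega, show m - 1 = m' by omega]))) hA
  have hall : ∀ p : ℕ, p.Prime → p ≤ 4 → p ∈ π := by
    rcases hA with hall | ⟨c, hc⟩
    · exact fun p hp hp4 => hall p hp (by omega)
    · exfalso
      rw [hm4] at hc
      rcases hc with ⟨h4, -⟩ | ⟨h78, -⟩
      · norm_num at h4
      · omega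
  have hk' : k = 2 := by
    by_contra hne
    refine hWπ 3 Nat.prime_three (hall 3 Nat.prime_three (by norm_num)) (Dvd.dvd.trans ?_ (hP 2 (by omega)))
    rw [hm4, show m' = 3 by omega, Nat.choose_eq_descFactorial_div_factorial]
    decide
  refine ⟨T, Or.inr ⟨Or.inr ⟨by rw [hnmk, hm4, hk'], by rw [hTc, hm4]⟩, fun p hp hpn => ⟨fun hpπ => ?_, fun h23 => ?_⟩⟩, fun g hg => ?_⟩
  · exact le_four_cases hp (hm4 ▸ hle p hp hpπ hpn)
  · exact hall p hp (by omega)
  · let gW : W := ⟨g, hMW hg⟩
    have hT' : ∀ x, x ∈ T ↔ F x = X0 := fun x => by simp [hT]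
    have hgx : ∀ x, g x ∈ T ↔ Ψ gW (F x) = X0 := fun x => by rw [hT', hΨ']
    by_cases h0 : Ψ gW X0 = X0
    · refine Or.inl fun x => ?_
      rw [hgx, hT']
      constructor
      · intro he; exact (Ψ gW).injective (he.trans h0.symm)
      · intro he; rw [he, h0]
    · refine Or.inr fun x => ?_
      rw [hgx, hT']
      constructor
      · intro he hx; rw [hx] at he; exact h0 he
      · intro hx
        have h2 : ∀ a b : {X : Set α // X ∈ 𝔅}, a ≠ X0 → b ≠ X0 → a = b := by
          intro a b ha hb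
          by_contra hab
          have h3 : 2 < Fintype.card {X : Set α // X ∈ 𝔅} :=
            Fintype.two_lt_card_iff.2 ⟨a, b, X0, hab, ha, hb⟩
          omega
        by_contra he
        exact hx ((Ψ gW).injective (h2 _ _ he h0))

/-- The primitive case does not occur. -/
theorem primitive (hmix : Mixed π (Fintype.card α)) {M G : Subgroup (Perm α)}
    (hG : alternatingGroup α ≤ G) (h : HallIn π M G) (hprim : IsPreprimitive M α) : False := by
  classical
  have h5 := hmix.five_le
  obtain ⟨⟨r, s, hr, hs, hrs, hrπ, hsπ, hrn, hsn⟩, u, hu, hun, huπ⟩ := hmix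
  set n := Fintype.card α with hn
  have hno : ¬ alternatingGroup α ≤ M := fun hle => huπ (h.2.1 u hu (prime_dvd_card hle (by omega) hu hun))
  have hdvd : n ∣ Nat.card M := by
    obtain ⟨x⟩ : Nonempty α := Fintype.card_pos_iff.1 (by omega)
    have hp : IsPretransitive M α := hprim.toIsPretransitive
    have := (MulAction.stabilizer M x).index_dvd_card
    rwa [MulAction.index_stabilizer_of_transitive, Nat.card_eq_fintype_card] at this
  have hle : ∀ q : ℕ, q.Prime → q ∣ Nat.card M → q ≤ n := by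
    intro q hq hd
    have := hd.trans (Subgroup.card_subgroup_dvd_card M)
    rw [Nat.card_eq_fintype_card, Fintype.card_perm] at this
    exact hq.dvd_factorial.1 this
  by_cases h3 : 3 ∈ π
  · obtain ⟨c, hc, hcyc, hsupp, -⟩ := exists_cycle h hG Nat.prime_three (by norm_num) h3 (by omega)
    exact hno (alternatingGroup_le_of_isPreprimitive_of_isThreeCycle_mem hprim (card_support_eq_three_iff.1 hsupp) hc)
  by_cases h2 : 2 ∈ π
  · obtain ⟨Γ, hΓ, hquad⟩ := exists_quad h hG h2 (by omega)
    have hblock : IsBlock M (Γ : Set α) := by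
      rw [isBlock_iff_smul_eq_or_disjoint]
      intro g
      set Δ : Finset α := (g : Perm α) • Γ with hΔ
      have hΔc : Δ.card = 4 := by rw [hΔ, Finset.card_smul_finset, hΓ]
      have hquad' : ∀ a b c d : α, a ∈ Δ → b ∈ Δ → c ∈ Δ → d ∈ Δ →
          a ≠ b → a ≠ c → a ≠ d → b ≠ c → b ≠ d → c ≠ d → swap a b * swap c d ∈ M := by
        intro a b c d ha hb hc hd hab hac had hbc hbd hcd
        obtain ⟨a', ha', rfl⟩ := Finset.mem_smul_finset.1 ha
        obtain ⟨b', hb', rfl⟩ := Finset.mem_smul_finset.1 hb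
        obtain ⟨c', hc', rfl⟩ := Finset.mem_smul_finset.1 hc
        obtain ⟨d', hd', rfl⟩ := Finset.mem_smul_finset.1 hd
        have := M.mul_mem (M.mul_mem g.2 (hquad a' b' c' d' ha' hb' hc' hd' (fun e => hab (by rw [e])) (fun e => hac (by rw [e]))
          (fun e => had (by rw [e])) (fun e => hbc (by rw [e])) (fun e => hbd (by rw [e])) (fun e => hcd (by rw [e])))) (M.inv_mem g.2)
        rw [Perm.smul_def, Perm.smul_def, Perm.smul_def, Perm.smul_def, Equiv.swap_apply_apply (g : Perm α),
          Equiv.swap_apply_apply (g : Perm α)]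
        simpa [mul_assoc] using this
      have hd3 : ¬ 3 ∣ Nat.card M := fun hd => h3 (h.2.1 3 Nat.prime_three hd)
      by_cases h0 : (Γ ∩ Δ).card = 0
      · right
        have : Disjoint Δ Γ := by rw [_root_.disjoint_comm, Finset.disjoint_iff_inter_eq_empty]; exact Finset.card_eq_zero.1 h0
        show Disjoint ((g : Perm α) • (Γ : Set α)) _
        rw [← Finset.coe_smul_finset]
        exact Finset.disjoint_coe.2 this
      · left
        have h4 : (Γ ∩ Δ).card = 4 := by_contra fun h4 => hd3 (three_dvd hΓ hΔc hquad hquad' h0 h4)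
        have e1 : Γ ∩ Δ = Γ := Finset.eq_of_subset_of_card_le Finset.inter_subset_left (by omega)
        have e2 : Γ ∩ Δ = Δ := Finset.eq_of_subset_of_card_le Finset.inter_subset_right (by omega)
        show (g : Perm α) • (Γ : Set α) = _
        rw [← Finset.coe_smul_finset, ← hΔ, ← e2, e1]
    rcases hprim.isTrivialBlock_of_isBlock hblock with hs' | hu'
    · have := Finset.card_le_one.2 fun a ha b hb => hs' (Finset.mem_coe.2 ha) (Finset.mem_coe.2 hb)
      omega
    · have : Γ = Finset.univ := by simpa using hu'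
      rw [this, Finset.card_univ] at hΓ
      omega
  -- the odd case
  have hex : ∃ p, p.Prime ∧ p ∈ π ∧ p ≤ n := ⟨r, hr, hrπ, hrn⟩
  set p := Nat.find hex with hpdef
  obtain ⟨hp, hpπ, hpn⟩ := Nat.find_spec hex
  have hmin : ∀ q : ℕ, q.Prime → q ∈ π → q ≤ n → p ≤ q := fun q hq hqπ hqn => Nat.find_min' hex ⟨hq, hqπ, hqn⟩
  have hp2 : p ≠ 2 := fun e => h2 (e ▸ hpπ)
  by_cases h2p : 2 * p < n
  · obtain ⟨c, hc, hcyc, hsupp, -⟩ := exists_cycle h hG hp hp2 hpπ hpn
    refine hno ?_
    have hJ : CfsgLib.Recognition.Jordan.IsJordanSet M ((c.support : Finset α) : Set α) := by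
      intro x hx y hy
      obtain ⟨i, hi⟩ := hcyc.sameCycle (Equiv.Perm.mem_support.1 (Finset.mem_coe.1 hx)) (Equiv.Perm.mem_support.1 (Finset.mem_coe.1 hy))
      refine ⟨⟨c ^ i, M.zpow_mem hc i⟩, fun z hz => ?_, hi⟩
      show (c ^ i) z = z
      exact Equiv.Perm.zpow_apply_eq_self_of_apply_eq_self (Equiv.Perm.notMem_support.1 (by simpa using hz)) i
    have := CfsgLib.Recognition.Jordan.alternating_le (G := M) hprim hJ (by rw [hsupp]; exact hp.one_lt) (by rw [hsupp]; exact h2p)
    refine this.trans ?_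
    rintro _ ⟨g, rfl⟩
    have : MulAction.toPermHom M α g = (g : Perm α) := by ext; rfl
    rw [this]
    exact g.2
  -- the degree is the only prime
  have hnp : n.Prime ∧ n ∈ π := by
    obtain ⟨l, hl, hld⟩ := Nat.exists_prime_and_dvd (show n ≠ 1 by omega)
    have hlπ := h.2.1 l hl (hld.trans hdvd)
    have hln := Nat.le_of_dvd (by omega) hld
    have hpl := hmin l hl hlπ hln
    obtain ⟨t, ht⟩ := hld
    rcases t with _ | _ | _ | t
    · omega
    · simp only [zero_add, mul_one] at ht
      exact ⟨ht ▸ hl, ht ▸ hlπ⟩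
    · exact absurd (h.2.1 2 Nat.prime_two ((Dvd.intro_left l (ht.symm : l * 2 = n)).trans hdvd)) h2
    · have : p * 3 ≤ l * (t + 1 + 1 + 1) := Nat.mul_le_mul hpl (by omega)
      omega
  obtain ⟨hnpr, hnπ⟩ := hnp
  haveI : Fact n.Prime := ⟨hnpr⟩
  obtain ⟨P⟩ : Nonempty (Sylow n M) := inferInstance
  have hPc : Nat.card P = n := by
    obtain ⟨j, hj⟩ := P.2.exists_card_eq
    have h1 : n ∣ Nat.card P := P.dvd_card_of_dvd_card hdvd
    have h2' : ¬ n ^ 2 ∣ Nat.card M := fun hd => by
      have := hd.trans (Subgroup.card_subgroup_dvd_card M)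
      rw [Nat.card_eq_fintype_card, Fintype.card_perm, ← hn, ← Nat.mul_factorial_pred (by omega : n ≠ 0), pow_two] at this
      have := Nat.dvd_of_mul_dvd_mul_left (by omega) this
      have := hnpr.dvd_factorial.1 this
      omega
    rcases j with _ | _ | j
    · rw [hj, pow_zero, Nat.dvd_one] at h1; omega
    · rw [hj, pow_one]
    · exact absurd ((pow_dvd_pow n (show 2 ≤ j + 1 + 1 by omega)).trans (hj ▸ Subgroup.card_subgroup_dvd_card (P : Subgroup M))) h2'
  have hcyc : IsCyclic (P : Subgroup M) := isCyclic_of_prime_card hPc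
  have hNC : Subgroup.normalizer ((P : Subgroup M) : Set M) ≤ Subgroup.centralizer ((P : Subgroup M) : Set M) := by
    by_contra hnle
    set nu := Subgroup.normalizerMonoidHom (P : Subgroup M)
    have h1 : Nat.card nu.range ∣ n - 1 := by
      have := Subgroup.card_subgroup_dvd_card nu.range
      rwa [IsCyclic.card_mulAut, hPc, Nat.totient_prime hnpr] at this
    have h1' : Nat.card nu.range ∣ Nat.card M :=
      (Subgroup.card_range_dvd nu).trans (Subgroup.card_subgroup_dvd_card _)
    have hne : Nat.card nu.range ≠ 1 := by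
      intro he
      apply hnle
      intro x hx
      have : (⟨x, hx⟩ : Subgroup.normalizer ((P : Subgroup M) : Set M)) ∈ nu.ker := by
        rw [MonoidHom.ker_eq_top_iff.2 (MonoidHom.range_eq_bot_iff.1 (Subgroup.card_eq_one.1 he))]
        exact Subgroup.mem_top _
      rw [Subgroup.normalizerMonoidHom_ker] at this
      exact this
    obtain ⟨l, hl, hld⟩ := Nat.exists_prime_and_dvd hne
    have hlπ := h.2.1 l hl (hld.trans h1')
    have hln := Nat.le_of_dvd (by omega) (hld.trans h1)
    have hpl := hmin l hl hlπ (by omega)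
    have hl2 : l ≠ 2 := fun e => h2 (e ▸ hlπ)
    have hodd := hnpr.eq_two_or_odd.resolve_left (by omega)
    have hdd : 2 * l ∣ n - 1 :=
      ((Nat.coprime_primes Nat.prime_two hl).2 (Ne.symm hl2)).mul_dvd_of_dvd_of_dvd (by omega) (hld.trans h1)
    have := Nat.le_of_dvd (by omega) hdd
    omega
  have hcompl := MonoidHom.ker_transferSylow_isComplement' P hNC
  set K := (MonoidHom.transferSylow P hNC).ker
  have hK : ¬ n ∣ Nat.card K := by
    have h1 := hcompl.card_mul
    intro hd
    have h2' : n * n ∣ Nat.card M := h1 ▸ hPc.symm ▸ Nat.mul_dvd_mul_right hd n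
    have := h2'.trans (Subgroup.card_subgroup_dvd_card M)
    rw [Nat.card_eq_fintype_card, Fintype.card_perm, ← hn, ← Nat.mul_factorial_pred (by omega : n ≠ 0)] at this
    have := hnpr.dvd_factorial.1 (Nat.dvd_of_mul_dvd_mul_left (by omega) this)
    omega
  have hKtriv : K = ⊥ := by
    by_contra hne
    haveI := hprim
    haveI : K.Normal := MonoidHom.normal_ker _
    have hfix : MulAction.fixedPoints K α ≠ Set.univ := by
      intro hu'
      refine hne (eq_bot_iff.2 fun g hg => Subgroup.mem_bot.2 (Subtype.ext (Equiv.ext fun x => ?_)))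
      have hx : x ∈ MulAction.fixedPoints K α := hu' ▸ Set.mem_univ x
      exact hx ⟨g, hg⟩
    haveI : IsPretransitive K α := MulAction.IsQuasiPreprimitive.isPretransitive_of_normal hfix
    obtain ⟨x⟩ : Nonempty α := Fintype.card_pos_iff.1 (by omega)
    have := (MulAction.stabilizer K x).index_dvd_card
    rw [MulAction.index_stabilizer_of_transitive, Nat.card_eq_fintype_card] at this
    exact hK this
  have hMn : Nat.card M = n := by
    have := hcompl.card_mul
    rw [hKtriv, Subgroup.card_bot, one_mul, hPc] at this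
    exact this.symm
  obtain ⟨c, hc, -, -, ho⟩ : ∃ c ∈ M, c.IsCycle ∧ c.support.card = p ∧ orderOf c = p := exists_cycle h hG hp hp2 hpπ hpn
  have hpd : p ∣ n := hMn ▸ ho ▸ Subgroup.orderOf_dvd_natCard M hc
  have hpn' : p = n := (Nat.prime_dvd_prime_iff_eq hp hnpr).1 hpd
  have h1 := hmin r hr hrπ hrn
  have h2' := hmin s hs hsπ hsn
  omega

theorem claim : ∀ n : ℕ, Mixed π n → Claim π n := by
  intro n
  induction n using Nat.strong_induction_on with
  | _ n IH =>
    intro hmix β _ _ hβ M G hG h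
    subst hβ
    classical
    by_cases htr : IsPretransitive M β
    · by_cases hprim : IsPreprimitive M β
      · exact (primitive hmix hG h hprim).elim
      · haveI := htr
        obtain ⟨B, hB, hnt⟩ : ∃ B : Set β, IsBlock M B ∧ ¬ IsTrivialBlock B := by
          by_contra hall
          push Not at hall
          exact hprim { isTrivialBlock_of_isBlock := fun {B} hB => hall B hB }
        simp only [IsTrivialBlock, not_or, Set.not_subsingleton_iff] at hnt
        refine imprimitive IH hmix hG h hB ((Set.one_lt_ncard_iff_nontrivial).2 hnt.1) ?_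
        rw [← Nat.card_eq_fintype_card]
        exact Set.ncard_lt_card hnt.2
    · obtain ⟨x, y, hxy⟩ : ∃ x y : β, ∀ g : M, g • x ≠ y := by
        by_contra hall
        push Not at hall
        exact htr ⟨hall⟩
      set O : Finset β := Finset.univ.filter fun z => z ∈ orbit M x with hO
      have hOm : ∀ g ∈ M, g • O = O := fun g hg => by
        rw [smul_finset_iff]
        intro z
        simp only [hO, Finset.mem_filter, Finset.mem_univ, true_and]
        constructor
        · rintro ⟨k, hk⟩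
          exact ⟨(⟨g, hg⟩ : M)⁻¹ * k, by simp only at hk ⊢; rw [mul_smul, hk]; exact g.symm_apply_apply z⟩
        · rintro ⟨k, hk⟩
          exact ⟨(⟨g, hg⟩ : M) * k, by simp only at hk ⊢; rw [mul_smul, hk]; rfl⟩
      have hxO : x ∈ O := by simp [hO, MulAction.mem_orbit_self]
      have hyO : y ∉ O := by
        simp only [hO, Finset.mem_filter, Finset.mem_univ, true_and, MulAction.mem_orbit_iff]
        rintro ⟨g, hg⟩; exact hxy g hg
      have h1 : 1 ≤ O.card := Finset.card_pos.2 ⟨x, hxO⟩
      have h2 : 1 ≤ Oᶜ.card := Finset.card_pos.2 ⟨y, Finset.mem_compl.2 hyO⟩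
      have h3 := Finset.card_compl O
      by_cases hle : 2 * O.card ≤ Fintype.card β
      · exact intransitive IH hmix hG h h1 hle hOm
      · exact intransitive IH hmix hG h h2 (by omega) fun g hg => by
          rw [smul_finset_iff]
          intro z
          simp only [Finset.mem_compl]
          exact not_congr ((smul_finset_iff g O).1 (hOm g hg) z)

end CfsgLib.SymHall
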