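import Cfsg.Prelude.Def_HallClasses
import Cfsg.Agent.Lib.SymHall.Structure

/-!
# The Hall properties of symmetric and alternating groups
-/

set_option autoImplicit false

open scoped Pointwise Nat
open Equiv Equiv.Perm MulAction Cfsg

namespace CfsgLib.SymHall

section general

variable {H : Type} [Group H] [Finite H] {π : Set ℕ}

/-- The trivial situation: at most one prime of `π` divides the order, or all do. -/
def Triv (π : Set ℕ) (m : ℕ) : Prop :=
  (∀ r s : ℕ, r.Prime → s.Prime → r ∈ π → s ∈ π → r ∣ m → s ∣ m → r = s) ∨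
    ∀ r : ℕ, r.Prime → r ∣ m → r ∈ π

/-- In the trivial situation a Hall subgroup exists and absorbs every `π`-subgroup. -/
theorem triv_hall (h : Triv π (Nat.card H)) :
    (∃ K : Subgroup H, IsPiHall π K) ∧
      ∀ K L : Subgroup H, IsPiHall π K → IsPiSubgroup π L → ∃ g : H, ∀ x ∈ L, g * x * g⁻¹ ∈ K := by
  by_cases hall : ∀ r : ℕ, r.Prime → r ∣ Nat.card H → r ∈ π
  · refine ⟨⟨⊤, fun p hp hd => hall p hp (by rwa [Subgroup.card_top] at hd), fun p hp _ hd => ?_⟩, fun K L hK _ => ⟨1, ?_⟩⟩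
    · rw [Subgroup.index_top] at hd; exact hp.not_dvd_one hd
    · have : K = ⊤ := by
        rw [← Subgroup.index_eq_one]
        by_contra hne
        obtain ⟨p, hp, hd⟩ := Nat.exists_prime_and_dvd hne
        exact hK.2 p hp (hall p hp (hd.trans K.index_dvd_card)) hd
      simp [this]
  have h1 := h.resolve_right hall
  by_cases hex : ∃ p : ℕ, p.Prime ∧ p ∈ π ∧ p ∣ Nat.card H
  · obtain ⟨p, hp, hpπ, hpd⟩ := hex
    haveI : Fact p.Prime := ⟨hp⟩
    have hgrp : ∀ L : Subgroup H, IsPiSubgroup π L → IsPGroup p L := fun L hL =>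
      IsPGroup.of_card (Nat.eq_prime_pow_of_unique_prime_dvd Nat.card_pos.ne' fun {q} hq hd =>
        h1 q p hq hp (hL q hq hd) hpπ (hd.trans (Subgroup.card_subgroup_dvd_card L)) hpd)
    obtain ⟨P⟩ : Nonempty (Sylow p H) := inferInstance
    refine ⟨⟨P, fun q hq hd => ?_, fun q hq hqπ hd => ?_⟩, fun K L hK hL => ?_⟩
    · obtain ⟨j, hj⟩ := P.2.exists_card_eq
      rw [hj] at hd
      exact (Nat.prime_dvd_prime_iff_eq hq hp).1 (hq.dvd_of_dvd_pow hd) ▸ hpπ
    · exact P.not_dvd_index ((h1 q p hq hp hqπ hpπ (hd.trans (Subgroup.index_dvd_card _)) hpd) ▸ hd)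
    · obtain ⟨g, -, hg⟩ := CfsgLib.Fusion.exists_conj_mem_of_le (hgrp L hL) (hgrp K hK.1) le_top le_top
        (by rw [Subgroup.relIndex_top_right]; exact hK.2 p hp hpπ)
      exact ⟨g, hg⟩
  · push Not at hex
    refine ⟨⟨⊥, fun q hq hd => ?_, fun q hq hqπ hd => hex q hq hqπ (hd.trans (Subgroup.index_dvd_card _))⟩,
      fun K L _ hL => ⟨1, fun x hx => ?_⟩⟩
    · rw [Subgroup.card_bot] at hd; exact absurd hd hq.not_dvd_one
    · have : L = ⊥ := by
        rw [← Subgroup.card_eq_one]
        by_contra hne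
        obtain ⟨q, hq, hd⟩ := Nat.exists_prime_and_dvd hne
        exact hex q hq (hL q hq hd) (hd.trans (Subgroup.card_subgroup_dvd_card L))
      rw [this, Subgroup.mem_bot] at hx
      simp [hx]

theorem map_conj_eq {K L : Subgroup H} {g : H} (hle : ∀ x ∈ L, g * x * g⁻¹ ∈ K)
    (hcard : Nat.card K ≤ Nat.card L) : K = L.map (MulAut.conj g).toMonoidHom := by
  refine (Subgroup.eq_of_le_of_card_ge ?_ ?_).symm
  · rintro _ ⟨x, hx, rfl⟩; exact hle x hx
  · rw [Subgroup.card_map_of_injective (MulAut.conj g).injective]; exact hcard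

omit [Finite H] in
theorem index_conj (g : H) (K : Subgroup H) : (K.map (MulAut.conj g).toMonoidHom).index = K.index :=
  Subgroup.index_map_of_bijective (MulAut.conj g).bijective K

/-- Two Hall subgroups have the same order. -/
theorem card_hall {K L : Subgroup H} (hK : IsPiHall π K) (hL : IsPiHall π L) : Nat.card K = Nat.card L := by
  have key : ∀ A B : Subgroup H, IsPiHall π A → IsPiHall π B → Nat.card A ∣ Nat.card B := by
    intro A B hA hB
    refine Nat.Coprime.dvd_of_dvd_mul_right (?_ : Nat.Coprime (Nat.card A) B.index)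
      (by rw [B.card_mul_index]; exact Subgroup.card_subgroup_dvd_card A)
    exact Nat.coprime_of_dvd fun p hp h1 h2 => hB.2 p hp (hA.1 p hp h1) h2
  exact Nat.dvd_antisymm (key K L hK hL) (key L K hL hK)

theorem triv_C (h : Triv π (Nat.card H)) : IsCPiGroup π H := by
  obtain ⟨hE, habs⟩ := triv_hall h
  refine ⟨hE, fun K L hK hL => ?_⟩
  obtain ⟨g, hg⟩ := habs L K hL hK.1
  exact ⟨g, map_conj_eq hg (card_hall hL hK).le⟩

theorem triv_D (h : Triv π (Nat.card H)) : IsDPiGroup π H := by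
  obtain ⟨⟨P, hP⟩, habs⟩ := triv_hall h
  have hmax : ∀ K : Subgroup H, Maximal (IsPiSubgroup π) K → IsPiHall π K := by
    intro K hK
    obtain ⟨g, hg⟩ := habs P K hP hK.1
    set P' := P.map (MulAut.conj g⁻¹).toMonoidHom with hP'
    have hP'' : IsPiHall π P' := by
      refine ⟨fun p hp hd => hP.1 p hp ?_, fun p hp hpπ hd => hP.2 p hp hpπ ?_⟩
      · rwa [hP', Subgroup.card_map_of_injective (MulAut.conj g⁻¹).injective] at hd
      · rwa [hP', index_conj] at hd
    have hle : K ≤ P' := fun x hx => ⟨g * x * g⁻¹, hg x hx, show g⁻¹ * (g * x * g⁻¹) * g⁻¹⁻¹ = x by group⟩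
    rwa [le_antisymm hle (hK.2 hP''.1 hle)]
  exact fun K L hK hL => (triv_C h).2 K L (hmax K hK) (hmax L hL)

end general

variable {α : Type} [Fintype α] [DecidableEq α] {π : Set ℕ}

/-- Two permutations with the same translate of a set differ by the stabiliser. -/
theorem exists_even_map {S T : Finset α} (hST : S.card = T.card) (h2 : 2 ≤ Sᶜ.card) :
    ∃ g ∈ alternatingGroup α, g • S = T := by
  obtain ⟨g, hg⟩ : ∃ g : Perm α, g • S = T := by
    have h1 := index_stabilizer_finset (α := α) S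
    obtain ⟨g, hg⟩ : ∃ g : Perm α, ∀ x : S, g x = (Finset.equivOfCardEq hST x : α) :=
      ⟨(Finset.equivOfCardEq hST).extendSubtype, fun x => Equiv.extendSubtype_apply_of_mem _ _ x.2⟩
    refine ⟨g, Finset.eq_of_subset_of_card_le (fun y hy => ?_) (by rw [Finset.card_smul_finset, hST])⟩
    obtain ⟨x, hx, rfl⟩ := Finset.mem_smul_finset.1 hy
    rw [Perm.smul_def, hg ⟨x, hx⟩]
    exact Finset.coe_mem _
  by_cases hA : g ∈ alternatingGroup α
  · exact ⟨g, hA, hg⟩
  obtain ⟨t, t', ht, ht', htt⟩ := Finset.one_lt_card_iff.1 (show 1 < Sᶜ.card by omega)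
  refine ⟨g * swap t t', ?_, ?_⟩
  · haveI : Nontrivial α := ⟨⟨t, t', htt⟩⟩
    rw [Subgroup.mul_mem_iff_of_index_two alternatingGroup.index_eq_two]
    refine iff_of_false hA ?_
    rw [mem_alternatingGroup, sign_swap htt]
    decide
  · rw [mul_smul, show swap t t' • S = S from ?_, hg]
    rw [smul_finset_iff]
    intro x
    rw [Finset.mem_compl] at ht ht'
    rcases eq_or_ne x t with rfl | h1
    · simp [ht, ht']
    rcases eq_or_ne x t' with rfl | h2'
    · simp [ht, ht']
    rw [swap_apply_of_ne_of_ne h1 h2']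

theorem pairStab_smul (g : Perm α) (S : Finset α) :
    pairStab (g • S) = (pairStab S).map (MulAut.conj g).toMonoidHom := by
  ext x
  rw [Subgroup.mem_map_equiv]
  have key : ∀ y : α, y ∈ g • S ↔ g⁻¹ y ∈ S := fun y => by
    rw [← Finset.inv_smul_mem_iff]; rfl
  show ((∀ y, x y ∈ g • S ↔ y ∈ g • S) ∨ (∀ y, x y ∈ g • S ↔ y ∉ g • S)) ↔
    ((∀ y, (g⁻¹ * x * g) y ∈ S ↔ y ∈ S) ∨ (∀ y, (g⁻¹ * x * g) y ∈ S ↔ y ∉ S))
  simp only [key, Perm.mul_apply]
  constructor
  · rintro (h | h)
    · exact Or.inl fun y => by simpa using h (g y)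
    · exact Or.inr fun y => by simpa using h (g y)
  · rintro (h | h)
    · exact Or.inl fun y => by simpa using h (g⁻¹ y)
    · exact Or.inr fun y => by simpa using h (g⁻¹ y)

/-- The group of a set in an exceptional case. -/
theorem pairStab_facts (hmix : Mixed π (Fintype.card α)) {S : Finset α} (hc : Case π (Fintype.card α) S.card) :
    2 ≤ Sᶜ.card ∧ (∃ y ∈ pairStab S, sign y = -1) ∧ IsPiHall π (pairStab S) := by
  have h5 := hmix.five_le
  set n := Fintype.card α with hn
  have hSc : Sᶜ.card = n - S.card := Finset.card_compl S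
  have h2 : 2 ≤ Sᶜ.card := by
    rcases hc with ⟨-, h1, -⟩ | ⟨h78, -⟩ <;> omega
  obtain ⟨t, t', ht, ht', htt⟩ := Finset.one_lt_card_iff.1 (show 1 < Sᶜ.card by omega)
  have hle : stabilizer (Perm α) S ≤ pairStab S := fun g hg => Or.inl ((smul_finset_iff g S).1 hg)
  have hswap : swap t t' ∈ stabilizer (Perm α) S := by
    rw [MulAction.mem_stabilizer_iff, smul_finset_iff]
    intro x
    rw [Finset.mem_compl] at ht ht'
    rcases eq_or_ne x t with rfl | h1
    · simp [ht, ht']
    rcases eq_or_ne x t' with rfl | h2'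
    · simp [ht, ht']
    rw [swap_apply_of_ne_of_ne h1 h2']
  refine ⟨h2, ⟨_, hle hswap, sign_swap htt⟩, ?_⟩
  -- the index
  have hrel : (stabilizer (Perm α) S).relIndex (pairStab S) = if 2 * S.card = n then 2 else 1 := by
    have e : (stabilizer (Perm α) S).subgroupOf (pairStab S) = stabilizer (pairStab S) S := rfl
    rw [Subgroup.relIndex, e, MulAction.index_stabilizer]
    split_ifs with h
    · have : orbit (pairStab S) S = {S, Sᶜ} := by
        ext T
        simp only [mem_orbit_iff, Set.mem_insert_iff, Set.mem_singleton_iff]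
        constructor
        · rintro ⟨⟨g, hg⟩, rfl⟩
          show g • S = S ∨ g • S = Sᶜ
          rcases hg with hg | hg
          · exact Or.inl ((smul_finset_iff g S).2 hg)
          · refine Or.inr ?_
            ext y
            rw [← Finset.inv_smul_mem_iff, Finset.mem_compl, show g⁻¹ • y = g⁻¹ y from rfl]
            have := hg (g⁻¹ y)
            rw [show g (g⁻¹ y) = y from g.apply_symm_apply y] at this
            tauto
        · rintro (rfl | rfl)
          · exact ⟨1, one_smul _ _⟩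
          · obtain ⟨g, -, hg⟩ := exists_even_map (T := Sᶜ) (show S.card = Sᶜ.card by omega) h2
            refine ⟨⟨g, Or.inr fun y => ?_⟩, hg⟩
            have h' : g y ∈ Sᶜ ↔ y ∈ S := by
              rw [← hg]; exact Finset.smul_mem_smul_finset_iff g
            rw [Finset.mem_compl] at h'
            tauto
      rw [this, Set.ncard_pair]
      intro he
      have := Finset.mem_compl.1 ht
      rw [← he] at ht
      exact this ht
    · have : orbit (pairStab S) S = {S} := by
        ext T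
        simp only [mem_orbit_iff, Set.mem_singleton_iff]
        constructor
        · rintro ⟨⟨g, hg⟩, rfl⟩
          show g • S = S
          rcases hg with hg | hg
          · exact (smul_finset_iff g S).2 hg
          · exfalso
            apply h
            have : g • S = Sᶜ := by
              ext y
              rw [← Finset.inv_smul_mem_iff, Finset.mem_compl, show g⁻¹ • y = g⁻¹ y from rfl]
              have := hg (g⁻¹ y)
              rw [show g (g⁻¹ y) = y from g.apply_symm_apply y] at this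
              tauto
            have := congrArg Finset.card this
            rw [Finset.card_smul_finset, hSc] at this
            omega
        · rintro rfl; exact ⟨1, one_smul _ _⟩
      rw [this, Set.ncard_singleton]
  have hidx := Subgroup.relIndex_mul_index hle
  rw [hrel, index_stabilizer_finset] at hidx
  have hcard := (pairStab S).card_mul_index
  rw [Nat.card_eq_fintype_card (α := Perm α), Fintype.card_perm, ← hn] at hcard
  rcases hc with ⟨hnp, hb, hπ⟩ | ⟨h78, hπ⟩
  · have hi : (pairStab S).index = n := by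
      rw [hb, if_neg (by omega), one_mul, Nat.choose_one_right] at hidx; exact hidx
    rw [hi, ← Nat.mul_factorial_pred (by omega : n ≠ 0), mul_comm] at hcard
    have hU := Nat.eq_of_mul_eq_mul_left (by omega) hcard
    refine ⟨fun p hp hd => ?_, fun p hp hpπ hd => ?_⟩
    · rw [hU] at hd
      have := hp.dvd_factorial.1 hd
      exact (hπ p hp (by omega)).2 (by omega)
    · rw [hi] at hd
      have hpn : p = n := (Nat.prime_dvd_prime_iff_eq hp hnp).1 hd
      subst hpn
      exact absurd ((hπ _ hp le_rfl).1 hpπ) (lt_irrefl _)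
  · have hi : (pairStab S).index = 35 := by
      rcases h78 with ⟨h7, hb⟩ | ⟨h8, hb⟩
      · rw [if_neg (by omega), one_mul, ← hn, h7, hb] at hidx
        rw [hidx]; decide
      · rw [if_pos (by omega), ← hn, h8, hb, show Nat.choose 8 4 = 70 by decide] at hidx
        omega
    rw [hi] at hcard
    refine ⟨fun p hp hd => ?_, fun p hp hpπ hd => ?_⟩
    · have hd' : p ∣ 2 ^ 7 * 3 ^ 2 := by
        refine hd.trans ?_
        rcases h78 with ⟨h7, -⟩ | ⟨h8, -⟩
        · rw [h7, show (7 : ℕ)! = 144 * 35 by decide] at hcard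
          rw [Nat.eq_of_mul_eq_mul_right (by norm_num) hcard]; norm_num
        · rw [h8, show (8 : ℕ)! = 1152 * 35 by decide] at hcard
          rw [Nat.eq_of_mul_eq_mul_right (by norm_num) hcard]; norm_num
      have h23 : p = 2 ∨ p = 3 := (hp.dvd_mul.1 hd').imp
        (fun h => (Nat.prime_dvd_prime_iff_eq hp Nat.prime_two).1 (hp.dvd_of_dvd_pow h))
        (fun h => (Nat.prime_dvd_prime_iff_eq hp Nat.prime_three).1 (hp.dvd_of_dvd_pow h))
      exact (hπ p hp (by omega)).2 h23
    · rw [hi] at hd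
      have hle7 : p ≤ 7 := by
        have hd' : p ∣ 5 * 7 := hd
        rcases hp.dvd_mul.1 hd' with h | h <;> have := Nat.le_of_dvd (by norm_num) h <;> omega
      rcases (hπ p hp (by omega)).1 hpπ with rfl | rfl <;> norm_num at hd

/-- A Hall subgroup of a group over the alternating group is the trace of such a group. -/
theorem eq_pairStab_inf (hmix : Mixed π (Fintype.card α)) {M G : Subgroup (Perm α)}
    (hG : alternatingGroup α ≤ G) (h : HallIn π M G) :
    ∃ S : Finset α, Case π (Fintype.card α) S.card ∧ M = pairStab S ⊓ G := by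
  obtain ⟨S, hc, hle⟩ := claim _ hmix α rfl M G hG h
  obtain ⟨-, ⟨y, hy, hodd⟩, hU⟩ := pairStab_facts hmix hc
  refine ⟨S, hc, ?_⟩
  obtain ⟨hK, -⟩ := h.mid (K := pairStab S ⊓ G) (le_inf hle h.1) inf_le_right
  refine le_antisymm hK.1 (Subgroup.relIndex_eq_one.1 ?_)
  by_contra hne
  obtain ⟨p, hp, hd⟩ := Nat.exists_prime_and_dvd hne
  refine hK.2.2 p hp (hU.1 p hp ?_) hd
  exact ((hd.trans (Subgroup.index_dvd_card _)).trans (Subgroup.card_dvd_of_le inf_le_left))

/-- The trace of an exceptional group is a Hall subgroup. -/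
theorem hallIn_pairStab (hmix : Mixed π (Fintype.card α)) {S : Finset α} (hc : Case π (Fintype.card α) S.card)
    {G : Subgroup (Perm α)} (hG : alternatingGroup α ≤ G) : HallIn π (pairStab S ⊓ G) G := by
  obtain ⟨-, ⟨y, hy, hodd⟩, hU⟩ := pairStab_facts hmix hc
  have h5 := hmix.five_le
  refine ⟨inf_le_right, fun p hp hd => hU.1 p hp (hd.trans (Subgroup.card_dvd_of_le inf_le_left)), fun p hp hpπ hd => ?_⟩
  rw [relIndex_inf_eq_index hG (by omega) hy hodd] at hd
  exact hU.2 p hp hpπ hd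

omit [Fintype α] in
theorem hallIn_map {G : Subgroup (Perm α)} (K : Subgroup ↥G) :
    IsPiHall π K ↔ HallIn π (K.map G.subtype) G := by
  have h1 : Nat.card (K.map G.subtype) = Nat.card K := Subgroup.card_map_of_injective G.subtype_injective
  have h2 : (K.map G.subtype).relIndex G = K.index := by
    rw [Subgroup.relIndex, Subgroup.subgroupOf, Subgroup.comap_map_eq_self_of_injective G.subtype_injective]
  rw [HallIn, IsPiHall, h1, h2]
  exact ⟨fun h => ⟨Subgroup.map_subtype_le K, h⟩, fun h => h.2⟩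

theorem map_top_eq (K : Subgroup (Perm α)) : IsPiHall π K ↔ HallIn π K ⊤ := by
  rw [HallIn, IsPiHall, Subgroup.relIndex_top_right]
  exact ⟨fun h => ⟨le_top, h⟩, fun h => h.2⟩

/-- The classification in the symmetric group. -/
theorem isE_perm_iff (hmix : Mixed π (Fintype.card α)) :
    IsEPiGroup π (Perm α) ↔ ∃ b, b ≤ Fintype.card α ∧ Case π (Fintype.card α) b := by
  constructor
  · rintro ⟨K, hK⟩
    obtain ⟨S, hc, -⟩ := eq_pairStab_inf hmix le_top ((map_top_eq K).1 hK)
    exact ⟨_, Finset.card_le_univ S, hc⟩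
  · rintro ⟨b, hb, hc⟩
    obtain ⟨S, -, rfl⟩ := Finset.exists_subset_card_eq (s := (Finset.univ : Finset α)) (by simpa using hb)
    exact ⟨_, (pairStab_facts hmix hc).2.2⟩

theorem isE_alt_iff (hmix : Mixed π (Fintype.card α)) :
    IsEPiGroup π ↥(alternatingGroup α) ↔ ∃ b, b ≤ Fintype.card α ∧ Case π (Fintype.card α) b := by
  constructor
  · rintro ⟨K, hK⟩
    obtain ⟨S, hc, -⟩ := eq_pairStab_inf hmix le_rfl ((hallIn_map K).1 hK)
    exact ⟨_, Finset.card_le_univ S, hc⟩
  · rintro ⟨b, hb, hc⟩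
    obtain ⟨S, -, rfl⟩ := Finset.exists_subset_card_eq (s := (Finset.univ : Finset α)) (by simpa using hb)
    refine ⟨(pairStab S).subgroupOf (alternatingGroup α), (hallIn_map _).2 ?_⟩
    rw [Subgroup.subgroupOf_map_subtype]
    exact hallIn_pairStab hmix hc le_rfl

/-- Conjugacy, by an even permutation. -/
theorem conj_hall (hmix : Mixed π (Fintype.card α)) {M M' G : Subgroup (Perm α)}
    (hG : alternatingGroup α ≤ G) (h : HallIn π M G) (h' : HallIn π M' G) :
    ∃ g ∈ alternatingGroup α, M' = M.map (MulAut.conj g).toMonoidHom := by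
  obtain ⟨S, hc, rfl⟩ := eq_pairStab_inf hmix hG h
  obtain ⟨T, hc', rfl⟩ := eq_pairStab_inf hmix hG h'
  have hcard : S.card = T.card := by
    rcases hc with ⟨hn, hb, hπ⟩ | ⟨h78, hπ⟩ <;> rcases hc' with ⟨hn', hb', hπ'⟩ | ⟨h78', hπ'⟩
    · omega
    · exfalso
      rcases h78' with ⟨h7, -⟩ | ⟨h8, -⟩
      · have := (hπ' 5 (by norm_num) (by omega)).1 ((hπ 5 (by norm_num) (by omega)).2 (by omega))
        norm_num at this
      · rw [h8] at hn; norm_num at hn
    · exfalso
      rcases h78 with ⟨h7, -⟩ | ⟨h8, -⟩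
      · have := (hπ 5 (by norm_num) (by omega)).1 ((hπ' 5 (by norm_num) (by omega)).2 (by omega))
        norm_num at this
      · rw [h8] at hn'; norm_num at hn'
    · rcases h78 with ⟨h1, h2⟩ | ⟨h1, h2⟩ <;> rcases h78' with ⟨h3, h4⟩ | ⟨h3, h4⟩ <;> omega
  obtain ⟨g, hg, hgS⟩ := exists_even_map hcard (pairStab_facts hmix hc).1
  refine ⟨g, hg, ?_⟩
  have hGn : G.map (MulAut.conj g).toMonoidHom = G := by
    refine Subgroup.eq_of_le_of_card_ge ?_ (by rw [Subgroup.card_map_of_injective (MulAut.conj g).injective])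
    rintro _ ⟨x, hx, rfl⟩
    exact G.mul_mem (G.mul_mem (hG hg) hx) (G.inv_mem (hG hg))
  rw [Subgroup.map_inf _ _ _ (MulAut.conj g).injective, ← pairStab_smul, hgS, hGn]

/-- Outside the trivial situation one of the classified cases occurs. -/
theorem triv_or_mixed (n : ℕ) (π : Set ℕ) :
    Mixed π n ∨ ((∀ r s : ℕ, r.Prime → s.Prime → r ∈ π → s ∈ π → r ≤ n → s ≤ n → r = s) ∨
      ∀ r : ℕ, r.Prime → r ≤ n → r ∈ π) := by
  by_contra h
  push Not at h
  obtain ⟨hm, ⟨r, s, hr, hs, hrπ, hsπ, hrn, hsn, hrs⟩, u, hu, hun, huπ⟩ := h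
  exact hm ⟨⟨r, s, hr, hs, hrs, hrπ, hsπ, hrn, hsn⟩, u, hu, hun, huπ⟩

theorem triv_of_le (G : Subgroup (Perm α))
    (h : (∀ r s : ℕ, r.Prime → s.Prime → r ∈ π → s ∈ π → r ≤ Fintype.card α → s ≤ Fintype.card α → r = s) ∨
      ∀ r : ℕ, r.Prime → r ≤ Fintype.card α → r ∈ π) : Triv π (Nat.card G) := by
  have hle : ∀ r : ℕ, r.Prime → r ∣ Nat.card G → r ≤ Fintype.card α := fun r hr hd => by
    have := hd.trans (Subgroup.card_subgroup_dvd_card G)
    rw [Nat.card_eq_fintype_card, Fintype.card_perm] at this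
    exact hr.dvd_factorial.1 this
  exact h.imp (fun h r s hr hs hrπ hsπ hrd hsd => h r s hr hs hrπ hsπ (hle r hr hrd) (hle s hs hsd))
    fun h r hr hd => h r hr (hle r hr hd)

theorem triv_perm
    (h : (∀ r s : ℕ, r.Prime → s.Prime → r ∈ π → s ∈ π → r ≤ Fintype.card α → s ≤ Fintype.card α → r = s) ∨
      ∀ r : ℕ, r.Prime → r ≤ Fintype.card α → r ∈ π) : Triv π (Nat.card (Perm α)) := by
  have := triv_of_le (α := α) ⊤ h
  rwa [Subgroup.card_top] at this

theorem isC_perm (hE : IsEPiGroup π (Perm α)) : IsCPiGroup π (Perm α) := by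
  rcases triv_or_mixed (Fintype.card α) π with hmix | ht
  · refine ⟨hE, fun K L hK hL => ?_⟩
    obtain ⟨g, -, hg⟩ := conj_hall hmix le_top ((map_top_eq K).1 hK) ((map_top_eq L).1 hL)
    exact ⟨g, hg⟩
  · exact triv_C (triv_perm ht)

theorem isC_alt (hE : IsEPiGroup π ↥(alternatingGroup α)) : IsCPiGroup π ↥(alternatingGroup α) := by
  rcases triv_or_mixed (Fintype.card α) π with hmix | ht
  · refine ⟨hE, fun K L hK hL => ?_⟩
    obtain ⟨g, hgA, hg⟩ := conj_hall hmix le_rfl ((hallIn_map K).1 hK) ((hallIn_map L).1 hL)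
    refine ⟨⟨g, hgA⟩, Subgroup.map_injective (alternatingGroup α).subtype_injective ?_⟩
    rw [hg, Subgroup.map_map, Subgroup.map_map]
    rfl
  · exact triv_C (triv_of_le _ ht)

theorem isE_perm_iff_alt : IsEPiGroup π (Perm α) ↔ IsEPiGroup π ↥(alternatingGroup α) := by
  rcases triv_or_mixed (Fintype.card α) π with hmix | ht
  · rw [isE_perm_iff hmix, isE_alt_iff hmix]
  · exact iff_of_true (triv_hall (triv_perm ht)).1 (triv_hall (triv_of_le _ ht)).1

theorem inf_alt {M₀ : Subgroup (Perm α)} (h : IsPiHall π M₀) :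
    IsPiHall π (M₀.subgroupOf (alternatingGroup α)) := by
  rw [hallIn_map, Subgroup.subgroupOf_map_subtype]
  exact ((map_top_eq M₀).1 h).kernel (alternatingGroup α) le_top fun g _ x hx => by
    rw [mem_alternatingGroup] at hx ⊢
    simp [hx]

/-- Hall subgroups of the alternating group are traces. -/
theorem hall_alt_iff (M : Subgroup ↥(alternatingGroup α)) :
    IsPiHall π M ↔ ∃ M₀ : Subgroup (Perm α), IsPiHall π M₀ ∧ M = M₀.subgroupOf (alternatingGroup α) := by
  constructor
  · intro hM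
    obtain ⟨K, hK⟩ := isE_perm_iff_alt.2 ⟨M, hM⟩
    obtain ⟨g, hg⟩ := (isC_alt ⟨M, hM⟩).2 _ M (inf_alt hK) hM
    refine ⟨K.map (MulAut.conj (g : Perm α)).toMonoidHom, ⟨fun p hp hd => hK.1 p hp ?_, fun p hp hpπ hd => hK.2 p hp hpπ ?_⟩, ?_⟩
    · rwa [Subgroup.card_map_of_injective (MulAut.conj _).injective] at hd
    · rwa [index_conj] at hd
    · rw [hg]
      ext x
      simp only [Subgroup.mem_subgroupOf, Subgroup.mem_map_equiv, MulAut.conj_symm_apply, Subgroup.coe_mul,
        Subgroup.coe_inv]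
  · rintro ⟨M₀, h, rfl⟩
    exact inf_alt h

set_option maxRecDepth 100000 in
set_option synthInstance.maxSize 4000 in
set_option synthInstance.maxHeartbeats 400000 in
theorem small_seven_bool : ∀ b0 b1 b2 b3 b4 b5 b6 : Bool,
    (cond b0 1 0 + cond b1 1 0 + cond b2 1 0 + cond b3 1 0 + cond b4 1 0 + cond b5 1 0 + cond b6 1 0) = (3 : ℕ) →
    ¬ (((b2 = b0 ∧ b3 = b1 ∧ b4 = b2 ∧ b5 = b3 ∧ b0 = b4 ∧ b1 = b5 ∧ b6 = b6) ∨ (b2 = !b0 ∧ b3 = !b1 ∧ b4 = !b2 ∧ b5 = !b3 ∧ b0 = !b4 ∧ b1 = !b5 ∧ b6 = !b6)) ∧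
      ((b1 = b0 ∧ b0 = b1 ∧ b3 = b2 ∧ b2 = b3 ∧ b4 = b4 ∧ b5 = b5 ∧ b6 = b6) ∨ (b1 = !b0 ∧ b0 = !b1 ∧ b3 = !b2 ∧ b2 = !b3 ∧ b4 = !b4 ∧ b5 = !b5 ∧ b6 = !b6)) ∧
      ((b2 = b0 ∧ b3 = b1 ∧ b0 = b2 ∧ b1 = b3 ∧ b4 = b4 ∧ b5 = b5 ∧ b6 = b6) ∨ (b2 = !b0 ∧ b3 = !b1 ∧ b0 = !b2 ∧ b1 = !b3 ∧ b4 = !b4 ∧ b5 = !b5 ∧ b6 = !b6))) := by decide +kernel

theorem small_seven : ∀ S : Finset (Fin 7), S.card = 3 →
    ¬ (∀ g ∈ [swap (0 : Fin 7) 2 * swap 2 4 * (swap 1 3 * swap 3 5), swap 0 1 * swap 2 3, swap 0 2 * swap 1 3], (∀ x, g x ∈ S ↔ x ∈ S) ∨ (∀ x, g x ∈ S ↔ x ∉ S)) := by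
  intro S hS h
  have hcard : ∀ T : Finset (Fin 7), T.card = ∑ i, cond (decide (i ∈ T)) 1 0 := fun T => by
    simp [Bool.cond_decide]
  refine small_seven_bool (decide ((0 : Fin 7) ∈ S)) (decide ((1 : Fin 7) ∈ S)) (decide ((2 : Fin 7) ∈ S)) (decide ((3 : Fin 7) ∈ S)) (decide ((4 : Fin 7) ∈ S)) (decide ((5 : Fin 7) ∈ S)) (decide ((6 : Fin 7) ∈ S)) ?_ ?_
  · rw [← hS, hcard S, Fin.sum_univ_seven]
  · refine ⟨?_, ?_, ?_⟩
    · rcases h _ (show ([swap (0 : Fin 7) 2 * swap 2 4 * (swap 1 3 * swap 3 5), swap 0 1 * swap 2 3, swap 0 2 * swap 1 3] : List (Perm (Fin 7)))[0] ∈ _ from List.getElem_mem _) with h' | h'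
      · refine Or.inl ?_
        simp only [List.getElem_cons_succ, List.getElem_cons_zero] at h'
        refine ⟨decide_eq_decide.2 (h' 0), decide_eq_decide.2 (h' 1), decide_eq_decide.2 (h' 2), decide_eq_decide.2 (h' 3), decide_eq_decide.2 (h' 4), decide_eq_decide.2 (h' 5), decide_eq_decide.2 (h' 6)⟩
      · refine Or.inr ?_
        simp only [List.getElem_cons_succ, List.getElem_cons_zero] at h'
        refine ⟨(decide_eq_decide.2 (h' 0)).trans (decide_not ..), (decide_eq_decide.2 (h' 1)).trans (decide_not ..), (decide_eq_decide.2 (h' 2)).trans (decide_not ..), (decide_eq_decide.2 (h' 3)).trans (decide_not ..), (decide_eq_decide.2 (h' 4)).trans (decide_not ..), (decide_eq_decide.2 (h' 5)).trans (decide_not ..), (decide_eq_decide.2 (h' 6)).trans (decide_not ..)⟩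
    · rcases h _ (show ([swap (0 : Fin 7) 2 * swap 2 4 * (swap 1 3 * swap 3 5), swap 0 1 * swap 2 3, swap 0 2 * swap 1 3] : List (Perm (Fin 7)))[1] ∈ _ from List.getElem_mem _) with h' | h'
      · refine Or.inl ?_
        simp only [List.getElem_cons_succ, List.getElem_cons_zero] at h'
        refine ⟨decide_eq_decide.2 (h' 0), decide_eq_decide.2 (h' 1), decide_eq_decide.2 (h' 2), decide_eq_decide.2 (h' 3), decide_eq_decide.2 (h' 4), decide_eq_decide.2 (h' 5), decide_eq_decide.2 (h' 6)⟩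
      · refine Or.inr ?_
        simp only [List.getElem_cons_succ, List.getElem_cons_zero] at h'
        refine ⟨(decide_eq_decide.2 (h' 0)).trans (decide_not ..), (decide_eq_decide.2 (h' 1)).trans (decide_not ..), (decide_eq_decide.2 (h' 2)).trans (decide_not ..), (decide_eq_decide.2 (h' 3)).trans (decide_not ..), (decide_eq_decide.2 (h' 4)).trans (decide_not ..), (decide_eq_decide.2 (h' 5)).trans (decide_not ..), (decide_eq_decide.2 (h' 6)).trans (decide_not ..)⟩
    · rcases h _ (show ([swap (0 : Fin 7) 2 * swap 2 4 * (swap 1 3 * swap 3 5), swap 0 1 * swap 2 3, swap 0 2 * swap 1 3] : List (Perm (Fin 7)))[2] ∈ _ from List.getElem_mem _) with h' | h'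
      · refine Or.inl ?_
        simp only [List.getElem_cons_succ, List.getElem_cons_zero] at h'
        refine ⟨decide_eq_decide.2 (h' 0), decide_eq_decide.2 (h' 1), decide_eq_decide.2 (h' 2), decide_eq_decide.2 (h' 3), decide_eq_decide.2 (h' 4), decide_eq_decide.2 (h' 5), decide_eq_decide.2 (h' 6)⟩
      · refine Or.inr ?_
        simp only [List.getElem_cons_succ, List.getElem_cons_zero] at h'
        refine ⟨(decide_eq_decide.2 (h' 0)).trans (decide_not ..), (decide_eq_decide.2 (h' 1)).trans (decide_not ..), (decide_eq_decide.2 (h' 2)).trans (decide_not ..), (decide_eq_decide.2 (h' 3)).trans (decide_not ..), (decide_eq_decide.2 (h' 4)).trans (decide_not ..), (decide_eq_decide.2 (h' 5)).trans (decide_not ..), (decide_eq_decide.2 (h' 6)).trans (decide_not ..)⟩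

set_option maxRecDepth 100000 in
set_option synthInstance.maxSize 4000 in
set_option synthInstance.maxHeartbeats 400000 in
theorem small_eight_bool : ∀ b0 b1 b2 b3 b4 b5 b6 b7 : Bool,
    (cond b0 1 0 + cond b1 1 0 + cond b2 1 0 + cond b3 1 0 + cond b4 1 0 + cond b5 1 0 + cond b6 1 0 + cond b7 1 0) = (4 : ℕ) →
    ¬ (((b2 = b0 ∧ b3 = b1 ∧ b4 = b2 ∧ b5 = b3 ∧ b0 = b4 ∧ b1 = b5 ∧ b6 = b6 ∧ b7 = b7) ∨ (b2 = !b0 ∧ b3 = !b1 ∧ b4 = !b2 ∧ b5 = !b3 ∧ b0 = !b4 ∧ b1 = !b5 ∧ b6 = !b6 ∧ b7 = !b7)) ∧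
      ((b1 = b0 ∧ b0 = b1 ∧ b2 = b2 ∧ b3 = b3 ∧ b4 = b4 ∧ b5 = b5 ∧ b7 = b6 ∧ b6 = b7) ∨ (b1 = !b0 ∧ b0 = !b1 ∧ b2 = !b2 ∧ b3 = !b3 ∧ b4 = !b4 ∧ b5 = !b5 ∧ b7 = !b6 ∧ b6 = !b7)) ∧
      ((b2 = b0 ∧ b3 = b1 ∧ b0 = b2 ∧ b1 = b3 ∧ b4 = b4 ∧ b5 = b5 ∧ b6 = b6 ∧ b7 = b7) ∨ (b2 = !b0 ∧ b3 = !b1 ∧ b0 = !b2 ∧ b1 = !b3 ∧ b4 = !b4 ∧ b5 = !b5 ∧ b6 = !b6 ∧ b7 = !b7))) := by decide +kernel

theorem small_eight : ∀ S : Finset (Fin 8), S.card = 4 →
    ¬ (∀ g ∈ [swap (0 : Fin 8) 2 * swap 2 4 * (swap 1 3 * swap 3 5), swap 0 1 * swap 6 7, swap 0 2 * swap 1 3], (∀ x, g x ∈ S ↔ x ∈ S) ∨ (∀ x, g x ∈ S ↔ x ∉ S)) := by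
  intro S hS h
  have hcard : ∀ T : Finset (Fin 8), T.card = ∑ i, cond (decide (i ∈ T)) 1 0 := fun T => by
    simp [Bool.cond_decide]
  refine small_eight_bool (decide ((0 : Fin 8) ∈ S)) (decide ((1 : Fin 8) ∈ S)) (decide ((2 : Fin 8) ∈ S)) (decide ((3 : Fin 8) ∈ S)) (decide ((4 : Fin 8) ∈ S)) (decide ((5 : Fin 8) ∈ S)) (decide ((6 : Fin 8) ∈ S)) (decide ((7 : Fin 8) ∈ S)) ?_ ?_
  · rw [← hS, hcard S, Fin.sum_univ_eight]
  · refine ⟨?_, ?_, ?_⟩
    · rcases h _ (show ([swap (0 : Fin 8) 2 * swap 2 4 * (swap 1 3 * swap 3 5), swap 0 1 * swap 6 7, swap 0 2 * swap 1 3] : List (Perm (Fin 8)))[0] ∈ _ from List.getElem_mem _) with h' | h'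
      · refine Or.inl ?_
        simp only [List.getElem_cons_succ, List.getElem_cons_zero] at h'
        refine ⟨decide_eq_decide.2 (h' 0), decide_eq_decide.2 (h' 1), decide_eq_decide.2 (h' 2), decide_eq_decide.2 (h' 3), decide_eq_decide.2 (h' 4), decide_eq_decide.2 (h' 5), decide_eq_decide.2 (h' 6), decide_eq_decide.2 (h' 7)⟩
      · refine Or.inr ?_
        simp only [List.getElem_cons_succ, List.getElem_cons_zero] at h'
        refine ⟨(decide_eq_decide.2 (h' 0)).trans (decide_not ..), (decide_eq_decide.2 (h' 1)).trans (decide_not ..), (decide_eq_decide.2 (h' 2)).trans (decide_not ..), (decide_eq_decide.2 (h' 3)).trans (decide_not ..), (decide_eq_decide.2 (h' 4)).trans (decide_not ..), (decide_eq_decide.2 (h' 5)).trans (decide_not ..), (decide_eq_decide.2 (h' 6)).trans (decide_not ..), (decide_eq_decide.2 (h' 7)).trans (decide_not ..)⟩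
    · rcases h _ (show ([swap (0 : Fin 8) 2 * swap 2 4 * (swap 1 3 * swap 3 5), swap 0 1 * swap 6 7, swap 0 2 * swap 1 3] : List (Perm (Fin 8)))[1] ∈ _ from List.getElem_mem _) with h' | h'
      · refine Or.inl ?_
        simp only [List.getElem_cons_succ, List.getElem_cons_zero] at h'
        refine ⟨decide_eq_decide.2 (h' 0), decide_eq_decide.2 (h' 1), decide_eq_decide.2 (h' 2), decide_eq_decide.2 (h' 3), decide_eq_decide.2 (h' 4), decide_eq_decide.2 (h' 5), decide_eq_decide.2 (h' 6), decide_eq_decide.2 (h' 7)⟩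
      · refine Or.inr ?_
        simp only [List.getElem_cons_succ, List.getElem_cons_zero] at h'
        refine ⟨(decide_eq_decide.2 (h' 0)).trans (decide_not ..), (decide_eq_decide.2 (h' 1)).trans (decide_not ..), (decide_eq_decide.2 (h' 2)).trans (decide_not ..), (decide_eq_decide.2 (h' 3)).trans (decide_not ..), (decide_eq_decide.2 (h' 4)).trans (decide_not ..), (decide_eq_decide.2 (h' 5)).trans (decide_not ..), (decide_eq_decide.2 (h' 6)).trans (decide_not ..), (decide_eq_decide.2 (h' 7)).trans (decide_not ..)⟩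
    · rcases h _ (show ([swap (0 : Fin 8) 2 * swap 2 4 * (swap 1 3 * swap 3 5), swap 0 1 * swap 6 7, swap 0 2 * swap 1 3] : List (Perm (Fin 8)))[2] ∈ _ from List.getElem_mem _) with h' | h'
      · refine Or.inl ?_
        simp only [List.getElem_cons_succ, List.getElem_cons_zero] at h'
        refine ⟨decide_eq_decide.2 (h' 0), decide_eq_decide.2 (h' 1), decide_eq_decide.2 (h' 2), decide_eq_decide.2 (h' 3), decide_eq_decide.2 (h' 4), decide_eq_decide.2 (h' 5), decide_eq_decide.2 (h' 6), decide_eq_decide.2 (h' 7)⟩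
      · refine Or.inr ?_
        simp only [List.getElem_cons_succ, List.getElem_cons_zero] at h'
        refine ⟨(decide_eq_decide.2 (h' 0)).trans (decide_not ..), (decide_eq_decide.2 (h' 1)).trans (decide_not ..), (decide_eq_decide.2 (h' 2)).trans (decide_not ..), (decide_eq_decide.2 (h' 3)).trans (decide_not ..), (decide_eq_decide.2 (h' 4)).trans (decide_not ..), (decide_eq_decide.2 (h' 5)).trans (decide_not ..), (decide_eq_decide.2 (h' 6)).trans (decide_not ..), (decide_eq_decide.2 (h' 7)).trans (decide_not ..)⟩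

set_option maxHeartbeats 2000000 in
set_option maxRecDepth 100000 in
/-- A `π`-subgroup outside the conjugates of the Hall subgroup. -/
theorem exists_bad (hmix : Mixed π (Fintype.card α)) {b : ℕ} (hc : Case π (Fintype.card α) b) :
    ∃ K : Subgroup (Perm α), K ≤ alternatingGroup α ∧ IsPiSubgroup π K ∧
      ∀ S : Finset α, S.card = b → ¬ K ≤ pairStab S := by
  have h5 := hmix.five_le
  rcases hc with ⟨hnp, hb, hπ⟩ | ⟨h78, hπ⟩
  · -- two points against the others
    obtain ⟨P, -, hP⟩ := Finset.exists_subset_card_eq (s := (Finset.univ : Finset α)) (n := 2)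
      (by rw [Finset.card_univ]; omega)
    refine ⟨stabilizer (Perm α) P ⊓ alternatingGroup α, inf_le_right, fun p hp hd => ?_, fun S hS hle => ?_⟩
    · have hd' := hd.trans (Subgroup.card_dvd_of_le inf_le_left)
      have h1 := (stabilizer (Perm α) P).card_mul_index
      rw [index_stabilizer_finset, hP, Nat.card_eq_fintype_card (α := Perm α), Fintype.card_perm] at h1
      have h2' := Nat.choose_mul_factorial_mul_factorial (show 2 ≤ Fintype.card α by omega)
      have hcs : Nat.card ↥(stabilizer (Perm α) P) = 2 ! * (Fintype.card α - 2)! :=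
        Nat.eq_of_mul_eq_mul_left (Nat.choose_pos (show 2 ≤ Fintype.card α by omega))
          (by rw [← mul_assoc, h2', mul_comm]; exact h1)
      rw [hcs] at hd'
      have hlt : p < Fintype.card α := by
        rcases hp.dvd_mul.1 hd' with h | h <;> have := hp.dvd_factorial.1 h <;> omega
      exact (hπ p hp hlt.le).2 hlt
    · rw [hb] at hS
      obtain ⟨x, rfl⟩ := Finset.card_eq_one.1 hS
      obtain ⟨a, a', haa, rfl⟩ := Finset.card_eq_two.1 hP
      have hcompl : 3 ≤ ({a, a'} : Finset α)ᶜ.card := by rw [Finset.card_compl, hP]; omega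
      obtain ⟨u, v, w, hu, hv, hw, huv, huw, hvw⟩ := Finset.two_lt_card_iff.1 hcompl
      simp only [Finset.mem_compl, Finset.mem_insert, Finset.mem_singleton, not_or] at hu hv hw
      have key : ∀ y ∈ stabilizer (Perm α) ({a, a'} : Finset α) ⊓ alternatingGroup α, y x = x := by
        intro y hy
        rcases hle hy with h | h
        · simpa using h x
        · exfalso
          obtain ⟨z, hz, hz'⟩ : ∃ z, z ≠ x ∧ y z ≠ x := by
            obtain ⟨z, hz⟩ : ∃ z, z ∉ ({x, y⁻¹ x} : Finset α) := by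
              have : ({x, y⁻¹ x} : Finset α).card < Fintype.card α := lt_of_le_of_lt Finset.card_le_two (by omega)
              by_contra hall
              push Not at hall
              have hle' := Finset.card_le_card (fun z _ => hall z : (Finset.univ : Finset α) ⊆ {x, y⁻¹ x})
              rw [Finset.card_univ] at hle'
              omega
            simp only [Finset.mem_insert, Finset.mem_singleton, not_or] at hz
            exact ⟨z, hz.1, fun e => hz.2 (by rw [← e]; exact (y.symm_apply_apply z).symm)⟩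
          have := h z
          simp [hz, hz'] at this
      have mk : ∀ p q r s : α, ({p, q} : Finset α) = {a, a'} → r ≠ s → r ≠ a → r ≠ a' → s ≠ a → s ≠ a' →
          swap p q * swap r s ∈ stabilizer (Perm α) ({a, a'} : Finset α) ⊓ alternatingGroup α := by
        intro p q r s hpq hrs hra hra' hsa hsa'
        have hpne : p ≠ q := by
          rintro rfl
          have := congrArg Finset.card hpq
          rw [hP] at this
          simp at this
        refine Subgroup.mem_inf.2 ⟨?_, ?_⟩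
        · rw [MulAction.mem_stabilizer_iff, ← hpq, mul_smul]
          have h1 : swap r s • ({p, q} : Finset α) = {p, q} := by
            rw [hpq]
            simp [Finset.smul_finset_insert, Finset.smul_finset_singleton, swap_apply_of_ne_of_ne, Ne.symm hra, Ne.symm hsa, Ne.symm hra', Ne.symm hsa']
          rw [h1]
          simp [Finset.smul_finset_insert, Finset.smul_finset_singleton, Finset.pair_comm]
        · rw [mem_alternatingGroup, map_mul, sign_swap hpne, sign_swap hrs]; rfl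
      by_cases hxP : x = a ∨ x = a'
      · have m1 := key _ (mk a a' u v rfl huv hu.1 hu.2 hv.1 hv.2)
        rcases hxP with rfl | rfl
        · rw [Perm.mul_apply, swap_apply_of_ne_of_ne (Ne.symm hu.1) (Ne.symm hv.1), swap_apply_left] at m1
          exact haa m1.symm
        · rw [Perm.mul_apply, swap_apply_of_ne_of_ne (Ne.symm hu.2) (Ne.symm hv.2), swap_apply_right] at m1
          exact haa m1
      · push Not at hxP
        obtain ⟨z, hz1, hz2, hzx⟩ : ∃ z, z ≠ a ∧ z ≠ a' ∧ z ≠ x := by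
          by_cases hxu : x = u
          · exact ⟨v, hv.1, hv.2, fun e => huv (hxu.symm.trans e.symm)⟩
          · exact ⟨u, hu.1, hu.2, Ne.symm hxu⟩
        have m1 := key _ (mk a a' x z rfl (Ne.symm hzx) hxP.1 hxP.2 hz1 hz2)
        rw [Perm.mul_apply, swap_apply_left, swap_apply_of_ne_of_ne hz1 hz2] at m1
        exact hzx m1
  · -- explicit small cases
    rcases h78 with ⟨hn, hb⟩ | ⟨hn, hb⟩
    · obtain ⟨e⟩ : Nonempty (Fin 7 ≃ α) := ⟨(Fintype.equivFinOfCardEq hn).symm⟩
      let t : Perm (Fin 7) := swap 0 1 * swap 2 3 * swap 4 5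
      let Φ : Perm (Fin 7) ≃* Perm α := e.permCongrHom
      refine ⟨(Subgroup.centralizer {t} ⊓ alternatingGroup (Fin 7)).map Φ.toMonoidHom, ?_, fun p hp hd => ?_, fun S hS hle => ?_⟩
      · rintro _ ⟨g, hg, rfl⟩
        rw [mem_alternatingGroup]
        exact (Equiv.Perm.sign_permCongr e g).trans (mem_alternatingGroup.1 hg.2)
      · rw [Subgroup.card_map_of_injective Φ.injective] at hd
        have hd' := hd.trans (Subgroup.card_dvd_of_le inf_le_left)
        rw [Equiv.Perm.nat_card_centralizer, show t.cycleType = {2, 2, 2} by decide +kernel] at hd'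
        have hd'' : p ∣ 2 ^ 4 * 3 := hd'.trans (dvd_of_eq (by rw [Fintype.card_fin]; decide))
        refine (hπ p hp ?_).2 ?_
        · have := Nat.le_of_dvd (by norm_num) hd''
          rcases hp.dvd_mul.1 hd'' with h | h
          · have := Nat.le_of_dvd (by norm_num) (hp.dvd_of_dvd_pow h); omega
          · have := Nat.le_of_dvd (by norm_num) h; omega
        · exact (hp.dvd_mul.1 hd'').imp (fun h => (Nat.prime_dvd_prime_iff_eq hp Nat.prime_two).1 (hp.dvd_of_dvd_pow h))
            (fun h => (Nat.prime_dvd_prime_iff_eq hp Nat.prime_three).1 h)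
      · refine small_seven (S.map e.symm.toEmbedding) (by rw [Finset.card_map, hS, hb]) fun g hg => ?_
        have hmem : g ∈ Subgroup.centralizer {t} ⊓ alternatingGroup (Fin 7) := by
          refine ⟨Subgroup.mem_centralizer_singleton_iff.2 ?_, mem_alternatingGroup.2 ?_⟩ <;>
            fin_cases hg <;> decide +kernel
        rcases hle ⟨g, hmem, rfl⟩ with h | h
        · exact Or.inl fun x => by simpa [Φ] using h (e x)
        · exact Or.inr fun x => by simpa [Φ] using h (e x)
    · obtain ⟨e⟩ : Nonempty (Fin 8 ≃ α) := ⟨(Fintype.equivFinOfCardEq hn).symm⟩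
      let t : Perm (Fin 8) := swap 0 1 * swap 2 3 * swap 4 5
      let Φ : Perm (Fin 8) ≃* Perm α := e.permCongrHom
      refine ⟨(Subgroup.centralizer {t} ⊓ alternatingGroup (Fin 8)).map Φ.toMonoidHom, ?_, fun p hp hd => ?_, fun S hS hle => ?_⟩
      · rintro _ ⟨g, hg, rfl⟩
        rw [mem_alternatingGroup]
        exact (Equiv.Perm.sign_permCongr e g).trans (mem_alternatingGroup.1 hg.2)
      · rw [Subgroup.card_map_of_injective Φ.injective] at hd
        have hd' := hd.trans (Subgroup.card_dvd_of_le inf_le_left)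
        rw [Equiv.Perm.nat_card_centralizer, show t.cycleType = {2, 2, 2} by decide +kernel] at hd'
        have hd'' : p ∣ 2 ^ 5 * 3 := hd'.trans (dvd_of_eq (by rw [Fintype.card_fin]; decide))
        refine (hπ p hp ?_).2 ?_
        · rcases hp.dvd_mul.1 hd'' with h | h
          · have := Nat.le_of_dvd (by norm_num) (hp.dvd_of_dvd_pow h); omega
          · have := Nat.le_of_dvd (by norm_num) h; omega
        · exact (hp.dvd_mul.1 hd'').imp (fun h => (Nat.prime_dvd_prime_iff_eq hp Nat.prime_two).1 (hp.dvd_of_dvd_pow h))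
            (fun h => (Nat.prime_dvd_prime_iff_eq hp Nat.prime_three).1 h)
      · refine small_eight (S.map e.symm.toEmbedding) (by rw [Finset.card_map, hS, hb]) fun g hg => ?_
        have hmem : g ∈ Subgroup.centralizer {t} ⊓ alternatingGroup (Fin 8) := by
          refine ⟨Subgroup.mem_centralizer_singleton_iff.2 ?_, mem_alternatingGroup.2 ?_⟩ <;>
            fin_cases hg <;> decide +kernel
        rcases hle ⟨g, hmem, rfl⟩ with h | h
        · exact Or.inl fun x => by simpa [Φ] using h (e x)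
        · exact Or.inr fun x => by simpa [Φ] using h (e x)

/-- The full analogue of the theorems of Sylow holds only in the trivial situation. -/
theorem not_D (hmix : Mixed π (Fintype.card α)) : ¬ IsDPiGroup π ↥(alternatingGroup α) := by
  intro hD
  classical
  set A := alternatingGroup α
  have hext : ∀ L : Subgroup A, IsPiSubgroup π L → ∃ K : Subgroup A, Maximal (IsPiSubgroup π) K ∧ L ≤ K := fun L hL => by
    obtain ⟨K, hle, hK⟩ := (Set.toFinite {K : Subgroup A | IsPiSubgroup π K}).exists_le_maximal hL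
    exact ⟨K, hK, hle⟩
  obtain ⟨K, hK, -⟩ := hext ⊥ fun p hp hd => by rw [Subgroup.card_bot] at hd; exact absurd hd hp.not_dvd_one
  have hKH : IsPiHall π K := by
    refine ⟨hK.1, fun p hp hpπ hd => ?_⟩
    haveI : Fact p.Prime := ⟨hp⟩
    obtain ⟨P⟩ : Nonempty (Sylow p A) := inferInstance
    obtain ⟨L, hL, hPL⟩ := hext P fun q hq hq' => by
      obtain ⟨j, hj⟩ := P.2.exists_card_eq
      rw [hj] at hq'
      exact (Nat.prime_dvd_prime_iff_eq hq hp).1 (hq.dvd_of_dvd_pow hq') ▸ hpπ
    obtain ⟨g, hg⟩ := hD K L hK hL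
    have : L.index = K.index := by rw [hg, index_conj]
    exact P.not_dvd_index (hd.trans (this ▸ Subgroup.index_dvd_of_le hPL))
  obtain ⟨S, hc, hKS⟩ := eq_pairStab_inf hmix le_rfl ((hallIn_map K).1 hKH)
  obtain ⟨B, hBA, hBπ, hbad⟩ := exists_bad hmix hc
  obtain ⟨L, hL, hBL⟩ := hext (B.subgroupOf A) fun p hp hd => hBπ p hp (by
    rwa [Nat.card_congr (Subgroup.subgroupOfEquivOfLe hBA).toEquiv] at hd)
  obtain ⟨g, hg⟩ := hD K L hK hL
  refine hbad ((g : Perm α) • S) (Finset.card_smul_finset _ _) ?_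
  rw [pairStab_smul]
  intro x hx
  obtain ⟨k, hk, hkx⟩ := Subgroup.mem_map.1 (hg ▸ hBL (show (⟨x, hBA hx⟩ : A) ∈ B.subgroupOf A from hx))
  have hkS : (k : Perm α) ∈ pairStab S := (hKS.le (Subgroup.mem_map_of_mem _ hk)).1
  exact Subgroup.mem_map.2 ⟨k, hkS, congrArg Subtype.val hkx⟩

end CfsgLib.SymHall
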